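import Mathlib

/-!
# Finite sets of eigenvalues closed under Frobenius and inversion (helper403)

`TL q n L` says that `L` is a least common multiple of numbers `q ^ k ± 1` with the sum of the `k` at most `n`.
-/

set_option autoImplicit false

namespace Cfsg.Agent.H403

open Function

/-- `L` is the least common multiple of numbers `q ^ k ± 1` with the sum of the `k ≥ 1` at most `n`. -/
inductive TL (q : ℕ) : ℕ → ℕ → Prop
  | one (n : ℕ) : TL q n 1
  | pos {n L : ℕ} (k : ℕ) (hk : 1 ≤ k) (h : TL q n L) : TL q (n + k) (Nat.lcm (q ^ k - 1) L)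
  | neg {n L : ℕ} (k : ℕ) (hk : 1 ≤ k) (h : TL q n L) : TL q (n + k) (Nat.lcm (q ^ k + 1) L)

theorem iterate_pow_eq {E : Type*} [Monoid E] (q i : ℕ) (x : E) : (fun y : E => y ^ q)^[i] x = x ^ q ^ i := by
  rw [pow_iterate]

theorem mem_iterate {E : Type*} {f : E → E} {S : Finset E} (hf : ∀ x ∈ S, f x ∈ S) {x : E} (hx : x ∈ S) (i : ℕ) :
    f^[i] x ∈ S := by
  induction i with
  | zero => exact hx
  | succ i ih =>
    rw [iterate_succ_apply']
    exact hf _ ih

theorem minimalPeriod_pos_of_finset {E : Type*} {f : E → E} (hinj : Injective f) {S : Finset E}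
    (hf : ∀ x ∈ S, f x ∈ S) {x : E} (hx : x ∈ S) : 0 < minimalPeriod f x := by
  apply minimalPeriod_pos_of_mem_periodicPts
  have h : ¬ Set.InjOn (fun i => f^[i] x) (Set.univ : Set ℕ) := by
    intro h
    have h2 : Set.Infinite ((fun i => f^[i] x) '' (Set.univ : Set ℕ)) :=
      (Set.infinite_image_iff h).2 Set.infinite_univ
    refine h2 (S.finite_toSet.subset ?_)
    rintro _ ⟨i, -, rfl⟩
    exact mem_iterate hf hx i
  rw [Set.injOn_univ] at h
  unfold Injective at h
  push Not at h
  obtain ⟨i, j, hij, hne⟩ := h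
  wlog hlt : i < j generalizing i j
  · exact this j i hij.symm hne.symm (by omega)
  refine ⟨j - i, by omega, ?_⟩
  have h3 : f^[i] (f^[j - i] x) = f^[i] x := by
    rw [← iterate_add_apply]
    have : i + (j - i) = j := by omega
    rw [this]
    exact hij.symm
  exact hinj.iterate i h3

/-- **The torus lemma.** A finite set of at most `2n` non-zero field elements, closed under `x ↦ x ^ q` (injective) and
inversion, without elements of square one, is killed by a least common multiple as in `TL q n`. -/
theorem exists_TL {E : Type*} [Field E] (q : ℕ) (hinj : Injective fun x : E => x ^ q) (n : ℕ)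
    (S : Finset E) (h0 : ∀ x ∈ S, x ≠ 0) (h1 : ∀ x ∈ S, x ^ 2 ≠ 1) (hfr : ∀ x ∈ S, x ^ q ∈ S)
    (hinv : ∀ x ∈ S, x⁻¹ ∈ S) (hc : S.card ≤ 2 * n) : ∃ L, TL q n L ∧ ∀ x ∈ S, x ^ L = 1 := by
  classical
  induction n using Nat.strong_induction_on generalizing S with
  | _ n ih =>
    rcases S.eq_empty_or_nonempty with rfl | ⟨x, hx⟩
    · exact ⟨1, TL.one n, by simp⟩
    set f : E → E := fun y => y ^ q with hf
    have hit : ∀ (i : ℕ) (y : E), f^[i] y = y ^ q ^ i := fun i y => iterate_pow_eq q i y
    set d := minimalPeriod f x with hd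
    have hd0 : 0 < d := minimalPeriod_pos_of_finset hinj hfr hx
    have hper : x ^ q ^ d = x := by
      rw [← hit]
      exact iterate_minimalPeriod
    -- the Frobenius orbit
    set O : Finset E := (Finset.range d).image (fun i => f^[i] x) with hO
    have hOc : O.card = d := by
      rw [hO, Finset.card_image_of_injOn, Finset.card_range]
      intro i hi j hj hij
      exact iterate_injOn_Iio_minimalPeriod (f := f) (x := x) (by simpa using hi) (by simpa using hj) hij
    have hOS : ∀ y ∈ O, y ∈ S := by
      intro y hy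
      obtain ⟨i, -, rfl⟩ := Finset.mem_image.1 hy
      exact mem_iterate hfr hx i
    have hmemO : ∀ i, f^[i] x ∈ O := by
      intro i
      rw [← iterate_mod_minimalPeriod_eq]
      exact Finset.mem_image.2 ⟨i % d, Finset.mem_range.2 (Nat.mod_lt _ hd0), rfl⟩
    have hOf : ∀ y ∈ O, f y ∈ O := by
      intro y hy
      obtain ⟨i, -, rfl⟩ := Finset.mem_image.1 hy
      have h6 := hmemO (i + 1)
      rwa [iterate_succ_apply'] at h6
    -- conversely, if `f y ∈ O` then `y ∈ O`
    have hOf' : ∀ y, f y ∈ O → y ∈ O := by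
      intro y hy
      obtain ⟨i, -, hi⟩ := Finset.mem_image.1 hy
      have h2 : f (f^[i + d - 1] x) = f y := by
        rw [← iterate_succ_apply' f, ← hi]
        have h3 : (i + d - 1).succ = i + d := by omega
        rw [h3, iterate_add_apply, hd, iterate_minimalPeriod]
      rw [← hinj h2]
      exact hmemO _
    have hOp : ∀ y ∈ O, ∀ k, x ^ k = 1 → y ^ k = 1 := by
      intro y hy k hk
      obtain ⟨i, -, rfl⟩ := Finset.mem_image.1 hy
      rw [hit, ← pow_mul, mul_comm, pow_mul, hk, one_pow]
    have hinvit : ∀ i, (f^[i] x)⁻¹ = f^[i] x⁻¹ := by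
      intro i
      rw [hit, hit, inv_pow]
    by_cases hself : x⁻¹ ∈ O
    · -- self-paired orbit
      obtain ⟨i, hi, hxi⟩ := Finset.mem_image.1 hself
      have hid : i < d := Finset.mem_range.1 hi
      have hi0 : i ≠ 0 := by
        rintro rfl
        rw [iterate_zero_apply] at hxi
        apply h1 x hx
        have : x * x⁻¹ = 1 := mul_inv_cancel₀ (h0 x hx)
        rw [← hxi] at this
        rw [pow_two]; exact this
      have h2i : f^[2 * i] x = x := by
        rw [two_mul, iterate_add_apply, hxi, ← hinvit, hxi, inv_inv]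
      have hdvd : d ∣ 2 * i := IsPeriodicPt.minimalPeriod_dvd h2i
      have h2id : 2 * i = d := by
        obtain ⟨c, hc'⟩ := hdvd
        have hc1 : c = 1 := by
          have : c < 2 := by
            by_contra hcon
            have : d * 2 ≤ d * c := Nat.mul_le_mul_left d (by omega)
            omega
          have hc0 : c ≠ 0 := by
            rintro rfl
            omega
          omega
        rw [hc', hc1, mul_one]
      have hxk : x ^ (q ^ i + 1) = 1 := by
        rw [pow_succ, ← hit, hxi, inv_mul_cancel₀ (h0 x hx)]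
      have hOinv : ∀ y ∈ O, y⁻¹ ∈ O := by
        intro y hy
        obtain ⟨j, -, rfl⟩ := Finset.mem_image.1 hy
        rw [hinvit, ← hxi, ← iterate_add_apply]
        exact hmemO _
      have hsd : (S \ O).card ≤ 2 * (n - i) := by
        rw [Finset.card_sdiff_of_subset fun y hy => hOS y hy, hOc]
        omega
      have hin : i ≤ n := by
        have : O.card ≤ S.card := Finset.card_le_card fun y hy => hOS y hy
        omega
      obtain ⟨L, hL, hLS⟩ := ih (n - i) (by omega) (S \ O) (fun y hy => h0 y (Finset.mem_sdiff.1 hy).1)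
        (fun y hy => h1 y (Finset.mem_sdiff.1 hy).1)
        (fun y hy => Finset.mem_sdiff.2 ⟨hfr y (Finset.mem_sdiff.1 hy).1, fun h => (Finset.mem_sdiff.1 hy).2 (hOf' y h)⟩)
        (fun y hy => Finset.mem_sdiff.2 ⟨hinv y (Finset.mem_sdiff.1 hy).1, fun h => (Finset.mem_sdiff.1 hy).2 (by
          have := hOinv _ h
          rwa [inv_inv] at this)⟩) hsd
      refine ⟨Nat.lcm (q ^ i + 1) L, ?_, ?_⟩
      · have h3 := TL.neg i (by omega) hL
        have h4 : n - i + i = n := by omega
        rwa [h4] at h3
      · intro y hy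
        by_cases hyO : y ∈ O
        · obtain ⟨c, hc⟩ := Nat.dvd_lcm_left (q ^ i + 1) L
          rw [hc, pow_mul, hOp y hyO _ hxk, one_pow]
        · obtain ⟨c, hc⟩ := Nat.dvd_lcm_right (q ^ i + 1) L
          rw [hc, pow_mul, hLS y (Finset.mem_sdiff.2 ⟨hy, hyO⟩), one_pow]
    · -- the orbit of the inverse is different
      set O' : Finset E := O.image (·⁻¹) with hO'
      have hO'c : O'.card = d := by
        rw [hO', Finset.card_image_of_injective _ inv_injective, hOc]
      have hO'S : ∀ y ∈ O', y ∈ S := by
        intro y hy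
        obtain ⟨z, hz, rfl⟩ := Finset.mem_image.1 hy
        exact hinv _ (hOS z hz)
      have hdisj : Disjoint O O' := by
        rw [Finset.disjoint_left]
        intro y hy hy'
        obtain ⟨z, hz, rfl⟩ := Finset.mem_image.1 hy'
        obtain ⟨j, hj, rfl⟩ := Finset.mem_image.1 hz
        rw [hinvit] at hy
        apply hself
        -- `f^[j] x⁻¹ ∈ O` gives `x⁻¹ ∈ O`
        have key : ∀ j, f^[j] x⁻¹ ∈ O → x⁻¹ ∈ O := by
          intro j
          induction j with
          | zero => exact fun h => h
          | succ j ihj =>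
            intro h
            rw [iterate_succ_apply'] at h
            exact ihj (hOf' _ h)
        exact key j hy
      have hxk : x ^ (q ^ d - 1) = 1 := by
        have hx0 := h0 x hx
        have hq0 : 0 < q ^ d := by
          rcases Nat.eq_zero_or_pos (q ^ d) with h | h
          · exfalso
            rw [h, pow_zero] at hper
            apply h1 x hx
            rw [← hper, one_pow]
          · exact h
        have h3 : x ^ (q ^ d - 1) * x = 1 * x := by
          rw [← pow_succ, Nat.sub_add_cancel hq0, hper, one_mul]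
        exact mul_right_cancel₀ hx0 h3
      have hU : (O ∪ O').card = 2 * d := by
        rw [Finset.card_union_of_disjoint hdisj, hOc, hO'c]
        ring
      have hUS : O ∪ O' ⊆ S := by
        intro y hy
        rcases Finset.mem_union.1 hy with h | h
        · exact hOS y h
        · exact hO'S y h
      have hdn : d ≤ n := by
        have : (O ∪ O').card ≤ S.card := Finset.card_le_card hUS
        omega
      have hsd : (S \ (O ∪ O')).card ≤ 2 * (n - d) := by
        rw [Finset.card_sdiff_of_subset hUS, hU]
        omega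
      have hUinv : ∀ y, y⁻¹ ∈ O ∪ O' → y ∈ O ∪ O' := by
        intro y hy
        rcases Finset.mem_union.1 hy with h | h
        · refine Finset.mem_union_right _ (Finset.mem_image.2 ⟨y⁻¹, h, inv_inv y⟩)
        · obtain ⟨z, hz, hzy⟩ := Finset.mem_image.1 h
          refine Finset.mem_union_left _ ?_
          have : z = y := inv_injective hzy
          rwa [← this]
      have hUf : ∀ y, f y ∈ O ∪ O' → y ∈ O ∪ O' := by
        intro y hy
        rcases Finset.mem_union.1 hy with h | h
        · exact Finset.mem_union_left _ (hOf' y h)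
        · obtain ⟨z, hz, hzy⟩ := Finset.mem_image.1 h
          refine Finset.mem_union_right _ (Finset.mem_image.2 ⟨y⁻¹, hOf' _ ?_, inv_inv y⟩)
          have h5 : f y⁻¹ = (f y)⁻¹ := by
            simp only [hf, inv_pow]
          rw [h5, ← hzy, inv_inv]
          exact hz
      obtain ⟨L, hL, hLS⟩ := ih (n - d) (by omega) (S \ (O ∪ O')) (fun y hy => h0 y (Finset.mem_sdiff.1 hy).1)
        (fun y hy => h1 y (Finset.mem_sdiff.1 hy).1)
        (fun y hy => Finset.mem_sdiff.2 ⟨hfr y (Finset.mem_sdiff.1 hy).1, fun h => (Finset.mem_sdiff.1 hy).2 (hUf y h)⟩)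
        (fun y hy => Finset.mem_sdiff.2 ⟨hinv y (Finset.mem_sdiff.1 hy).1, fun h =>
          (Finset.mem_sdiff.1 hy).2 (hUinv y h)⟩) hsd
      refine ⟨Nat.lcm (q ^ d - 1) L, ?_, ?_⟩
      · have h3 := TL.pos d (by omega) hL
        have h4 : n - d + d = n := by omega
        rwa [h4] at h3
      · intro y hy
        by_cases hyO : y ∈ O ∪ O'
        · obtain ⟨c, hc⟩ := Nat.dvd_lcm_left (q ^ d - 1) L
          rw [hc, pow_mul]
          rcases Finset.mem_union.1 hyO with h | h
          · rw [hOp y h _ hxk, one_pow]
          · obtain ⟨z, hz, rfl⟩ := Finset.mem_image.1 h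
            rw [inv_pow, hOp z hz _ hxk, inv_one, one_pow]
        · obtain ⟨c, hc⟩ := Nat.dvd_lcm_right (q ^ d - 1) L
          rw [hc, pow_mul, hLS y (Finset.mem_sdiff.2 ⟨hy, hyO⟩), one_pow]

end Cfsg.Agent.H403
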