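import Cfsg.Agent.H403.Roots
import Cfsg.Agent.H403.TorusList

/-!
# Orders of elements of `Sp_{2n}(q)`, `q` even: upper bound (helper403)
-/

set_option autoImplicit false
set_option linter.unusedSectionVars false
set_option linter.style.haveILetI false

namespace Cfsg.Agent.H403

open Polynomial Matrix Function

/-- Half the least dimension of a symplectic space in characteristic two with an element of order `2 ^ b`. -/
def mb : ℕ → ℕ
  | 0 => 0
  | 1 => 1
  | (b + 2) => 2 ^ b + 1

/-- Multiplicities in a multiset closed under inversion, characteristic two. -/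
theorem exists_mb {E : Type*} [Field E] [CharP E 2] [DecidableEq E] (R : Multiset E) (n : ℕ) (hc : R.card = 2 * n)
    (h0 : (0 : E) ∉ R) (hinv : ∀ x, R.count x⁻¹ = R.count x) :
    ∃ b, mb b ≤ n ∧ (R.toFinset.erase 1).card ≤ 2 * (n - mb b) ∧ ∀ x, R.count x ≤ 2 ^ b := by
  classical
  set S := R.toFinset.erase 1 with hS
  have hsq : ∀ x : E, x * x = 1 → x = 1 := by
    intro x hx
    have h : (x - 1) ^ 2 = 0 := by
      rw [sub_sq]
      have h2 : (2 : E) = 0 := CharTwo.two_eq_zero
      rw [h2, pow_two, hx]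
      have : (1 : E) + 1 = 0 := CharTwo.add_self_eq_zero 1
      linear_combination this
    have := pow_eq_zero_iff (two_ne_zero) |>.1 h
    exact sub_eq_zero.1 this
  have hinvS : ∀ x ∈ S, x⁻¹ ∈ S := by
    intro x hx
    rw [hS, Finset.mem_erase, Multiset.mem_toFinset] at hx ⊢
    refine ⟨fun h => hx.1 ?_, ?_⟩
    · rw [← inv_inv x, h, inv_one]
    · rw [← Multiset.count_pos, hinv, Multiset.count_pos]
      exact hx.2
  have hne : ∀ x ∈ S, x⁻¹ ≠ x := by
    intro x hx h
    rw [hS, Finset.mem_erase, Multiset.mem_toFinset] at hx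
    have hx0 : x ≠ 0 := fun h => h0 (h ▸ hx.2)
    apply hx.1
    apply hsq
    nth_rewrite 1 [← h]
    exact inv_mul_cancel₀ hx0
  have hpar : Even (∑ x ∈ S, R.count x) := by
    have h : (∑ x ∈ S, ((R.count x : ℕ) : ZMod 2)) = 0 := by
      refine Finset.sum_involution (fun x _ => x⁻¹) ?_ ?_ ?_ ?_
      · intro x hx
        rw [hinv]
        exact CharTwo.add_self_eq_zero _
      · intro x hx _
        exact hne x hx
      · intro x hx
        exact hinvS x hx
      · intro x hx
        exact inv_inv x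
    rw [← Nat.cast_sum] at h
    exact (ZMod.natCast_eq_zero_iff_even).1 h
  have htot : R.count 1 + ∑ x ∈ S, R.count x = 2 * n := by
    rw [← hc, ← Multiset.toFinset_sum_count_eq]
    by_cases h1 : (1 : E) ∈ R.toFinset
    · rw [hS, ← Finset.add_sum_erase _ _ h1]
    · rw [hS, Finset.erase_eq_of_notMem h1]
      have : R.count (1 : E) = 0 := by
        rw [Multiset.count_eq_zero]
        exact fun h => h1 (Multiset.mem_toFinset.2 h)
      rw [this, zero_add]
  have heven1 : Even (R.count 1) := by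
    have h2 : Even (R.count 1 + ∑ x ∈ S, R.count x) := by rw [htot]; exact even_two_mul n
    exact (Nat.even_add.1 h2).2 hpar
  have hpos : ∀ x ∈ S, 1 ≤ R.count x := by
    intro x hx
    rw [hS, Finset.mem_erase, Multiset.mem_toFinset] at hx
    exact Multiset.one_le_count_iff_mem.2 hx.2
  have hcard : S.card ≤ ∑ x ∈ S, R.count x := by
    rw [Finset.card_eq_sum_ones]
    exact Finset.sum_le_sum hpos
  have hcard2 : ∀ x ∈ S, S.card + 2 * (R.count x - 1) ≤ ∑ x ∈ S, R.count x := by
    intro x hx
    have hxi := hinvS x hx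
    have h3 : ∑ y ∈ S, (1 + (R.count y - 1)) = ∑ y ∈ S, R.count y :=
      Finset.sum_congr rfl fun y hy => by have := hpos y hy; omega
    rw [← h3, Finset.sum_add_distrib, ← Finset.card_eq_sum_ones]
    have h4 : ({x, x⁻¹} : Finset E) ⊆ S := by
      intro y hy
      rcases Finset.mem_insert.1 hy with rfl | hy
      · exact hx
      · rw [Finset.mem_singleton.1 hy]; exact hxi
    have h5 := Finset.sum_le_sum_of_subset (f := fun y => R.count y - 1) h4
    rw [Finset.sum_pair (hne x hx).symm, hinv] at h5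
    omega
  -- the least `b`
  have hex : ∃ b, ∀ x, R.count x ≤ 2 ^ b := by
    refine ⟨R.card, fun x => (Multiset.count_le_card x R).trans ?_⟩
    exact Nat.lt_two_pow_self.le
  set b := Nat.find hex with hb
  have hbs : ∀ x, R.count x ≤ 2 ^ b := Nat.find_spec hex
  refine ⟨b, ?_⟩
  suffices h : mb b ≤ n ∧ S.card ≤ 2 * (n - mb b) from ⟨h.1, h.2, hbs⟩
  rcases Nat.eq_zero_or_pos b with hb0 | hb0
  · rw [hb0]
    simp only [mb]
    omega
  · have hmin : ¬ ∀ x, R.count x ≤ 2 ^ (b - 1) := Nat.find_min hex (by omega)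
    push Not at hmin
    obtain ⟨x, hx⟩ := hmin
    obtain ⟨c, hc1⟩ : ∃ c, b = c + 1 := ⟨b - 1, by omega⟩
    rw [hc1, Nat.add_sub_cancel] at hx
    rw [hc1]
    have h1le := Nat.one_le_two_pow (n := c)
    by_cases hx1 : x = 1
    · rw [hx1] at hx
      obtain ⟨t, ht⟩ := heven1
      rcases Nat.eq_zero_or_pos c with hc0 | hc0
      · rw [hc0] at hx ⊢
        simp only [mb, zero_add, pow_zero] at hx ⊢
        omega
      · obtain ⟨d, rfl⟩ : ∃ d, c = d + 1 := ⟨c - 1, by omega⟩
        simp only [mb]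
        rw [pow_succ] at hx
        omega
    · have hxS : x ∈ S := by
        rw [hS, Finset.mem_erase, Multiset.mem_toFinset]
        refine ⟨hx1, ?_⟩
        rw [← Multiset.count_pos]
        omega
      have h6 := hcard2 x hxS
      have h7 : 2 ≤ S.card := by
        have : ({x, x⁻¹} : Finset E).card ≤ S.card := by
          apply Finset.card_le_card
          intro y hy
          rcases Finset.mem_insert.1 hy with rfl | hy
          · exact hxS
          · rw [Finset.mem_singleton.1 hy]; exact hinvS x hxS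
        rwa [Finset.card_pair (hne x hxS).symm] at this
      rcases Nat.eq_zero_or_pos c with hc0 | hc0
      · rw [hc0] at hx ⊢
        simp only [mb, zero_add, pow_zero] at hx ⊢
        omega
      · obtain ⟨d, rfl⟩ : ∃ d, c = d + 1 := ⟨c - 1, by omega⟩
        simp only [mb]
        rw [pow_succ] at hx
        have := Nat.one_le_two_pow (n := d)
        omega

variable {F : Type*} [Field F] [Fintype F] [CharP F 2]

/-- **Upper bound** for the orders of elements of `Sp_{2n}(q)`, `q` even. -/
theorem exists_pow_eq_one_of_inv_similar {ι : Type*} [Fintype ι] [DecidableEq ι] (M : Matrix ι ι F) (hM : IsUnit M)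
    {n : ℕ} (hn : Fintype.card ι = 2 * n) (hinv : M⁻¹.charpoly = M.charpoly) :
    ∃ b L, mb b ≤ n ∧ TL (Fintype.card F) (n - mb b) L ∧ M ^ (L * 2 ^ b) = 1 := by
  classical
  let E := AlgebraicClosure F
  haveI : CharP E 2 := charP_of_injective_algebraMap (algebraMap F E).injective 2
  haveI : Fact (Nat.Prime 2) := ⟨Nat.prime_two⟩
  set R : Multiset E := evs E M with hR
  have h0 : (0 : E) ∉ R := zero_notMem_evs E M hM
  have hinvR : R.map (·⁻¹) = R := by
    rw [hR, ← evs_inv E M hM, evs, hinv, evs]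
  have hinvc : ∀ x, R.count x⁻¹ = R.count x := by
    intro x
    conv_lhs => rw [← hinvR]
    exact Multiset.count_map_eq_count' _ _ inv_injective x
  obtain ⟨b, hb1, hb2, hb3⟩ := exists_mb R n (by rw [hR, card_evs, hn]) h0 hinvc
  obtain ⟨k, hk, hkq⟩ := FiniteField.card F 2
  have hinj : Injective fun x : E => x ^ Fintype.card F := by
    intro x y hxy
    dsimp only at hxy
    rw [hkq, ← iterateFrobenius_def, ← iterateFrobenius_def] at hxy
    exact (iterateFrobenius_inj E 2 k) hxy
  have hfr := evs_frob E M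
  obtain ⟨L, hL1, hL2⟩ := exists_TL (Fintype.card F) hinj (n - mb b) (R.toFinset.erase 1)
    (fun x hx => by
      rintro rfl
      exact h0 (Multiset.mem_toFinset.1 (Finset.mem_of_mem_erase hx)))
    (fun x hx h => by
      apply (Finset.mem_erase.1 hx).1
      have h3 : (x - 1) ^ 2 = 0 := by
        rw [sub_pow_char, h]
        simp
      exact sub_eq_zero.1 ((pow_eq_zero_iff two_ne_zero).1 h3))
    (fun x hx => by
      rw [Finset.mem_erase, Multiset.mem_toFinset] at hx ⊢
      refine ⟨fun h => hx.1 ?_, ?_⟩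
      · apply hinj
        dsimp only
        rw [h, one_pow]
      · rw [hR, ← hfr]
        exact Multiset.mem_map_of_mem _ hx.2)
    (fun x hx => by
      rw [Finset.mem_erase, Multiset.mem_toFinset] at hx ⊢
      refine ⟨fun h => hx.1 ?_, ?_⟩
      · rw [← inv_inv x, h, inv_one]
      · rw [← hinvR]
        exact Multiset.mem_map_of_mem _ hx.2) hb2
  refine ⟨b, L, hb1, hL1, pow_eq_one_of_evs E 2 M L b ?_ hb3⟩
  intro x hx
  by_cases h : x = 1
  · rw [h, one_pow]
  · exact hL2 x (Finset.mem_erase.2 ⟨h, Multiset.mem_toFinset.2 hx⟩)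

theorem charpoly_inv_of_symplectic {l : Type*} [Fintype l] [DecidableEq l] {M : Matrix (l ⊕ l) (l ⊕ l) F}
    (hM : M ∈ Matrix.symplecticGroup l F) : IsUnit M ∧ M⁻¹.charpoly = M.charpoly := by
  have h1 : M * J l F * Mᵀ = J l F := SymplecticGroup.mem_iff.1 hM
  have hJ : J l F * -(J l F) = 1 := by
    rw [Matrix.mul_neg, J_squared, neg_neg]
  have hJ' : -(J l F) * J l F = 1 := by
    rw [Matrix.neg_mul, J_squared, neg_neg]
  have h2 : M * (J l F * Mᵀ * -(J l F)) = 1 := by
    rw [← Matrix.mul_assoc, ← Matrix.mul_assoc, h1, hJ]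
  have hu : IsUnit M := IsUnit.of_mul_eq_one _ h2
  refine ⟨hu, ?_⟩
  have h3 : M⁻¹ = J l F * Mᵀ * -(J l F) := Matrix.inv_eq_right_inv h2
  rw [h3, Matrix.charpoly_mul_comm, ← Matrix.mul_assoc, hJ', Matrix.one_mul, charpoly_transpose]

/-- **Upper bound** for the orders of elements of `Sp_{2n}(q)`, `q` even. -/
theorem exists_pow_eq_one_of_symplectic {n : ℕ} {M : Matrix (Fin n ⊕ Fin n) (Fin n ⊕ Fin n) F}
    (hM : M ∈ Matrix.symplecticGroup (Fin n) F) :
    ∃ b L, mb b ≤ n ∧ TL (Fintype.card F) (n - mb b) L ∧ M ^ (L * 2 ^ b) = 1 := by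
  obtain ⟨h1, h2⟩ := charpoly_inv_of_symplectic hM
  exact exists_pow_eq_one_of_inv_similar M h1 (by rw [Fintype.card_sum, Fintype.card_fin]; ring) h2

end Cfsg.Agent.H403
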