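import Cfsg.Agent.H403.EltConstr
import Cfsg.Agent.H403.SpEvenUpper

/-!
# Regular unipotent elements and all orders `2 ^ b * L` in orthogonal groups in characteristic two (helper403)
-/

set_option autoImplicit false
set_option linter.unusedSectionVars false
set_option linter.style.haveILetI false

namespace Cfsg.Agent.H403

open QuadraticMap
open Cfsg.Agent.LieClassical.OrthCore Cfsg.Agent.LieClassical.OrthForms
open Cfsg.Agent.H403.Classify

section

variable {F : Type*} [Field F] [Finite F] [CharP F 2]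

theorem polar_Tself {V : Type*} [AddCommGroup V] [Module F V] (Q : QuadraticForm F V) (x y : V) (c : F) :
    polar Q x (c • y) = c * polar Q x y := by
  rw [polar_smul_right, smul_eq_mul]

theorem Uni.step {m : ℕ} (hm : 1 ≤ m) {ε : ℤ} (h : Uni F m ε) : Uni F (m + 1) ε := by
  obtain ⟨d, Q, T, hQ, hs, hT, h0, w, hw⟩ := h
  have h2 : (2 : F) = 0 := CharTwo.two_eq_zero
  let Q' : QuadraticForm F ((Fin d → F) × F × F) :=
    Q.comp (LinearMap.fst F _ _) +
      QuadraticMap.linMulLin ((LinearMap.fst F F F).comp (LinearMap.snd F _ _))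
        ((LinearMap.snd F F F).comp (LinearMap.snd F _ _))
  have hQ' : ∀ v, Q' v = Q v.1 + v.2.1 * v.2.2 := fun v => rfl
  -- the second component of `T'`
  let ℓ : (Fin d → F) →ₗ[F] F := (polarBilin Q).flip w
  have hℓ : ∀ v, ℓ v = polar Q v w := fun v => rfl
  let T' : Module.End F ((Fin d → F) × F × F) :=
    (T.comp (LinearMap.fst F _ _) + ((LinearMap.snd F F F).comp (LinearMap.snd F _ _)).smulRight w).prod
      (((ℓ.comp (1 + T)).comp (LinearMap.fst F _ _) + (Q w) • ((LinearMap.snd F F F).comp (LinearMap.snd F _ _))).prod 0)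
  have hT' : ∀ v, T' v = (T v.1 + v.2.2 • w, ℓ (v.1 + T v.1) + Q w * v.2.2, 0) := fun v => rfl
  -- iterates
  have hpow : ∀ (k : ℕ) (v : (Fin d → F) × F × F),
      (T' ^ (k + 1)) v = ((T ^ k) (T v.1 + v.2.2 • w), (T' ^ (k + 1) : Module.End F _) v |>.2.1, 0) ∧
        (T' ^ (k + 2)) v = ((T ^ (k + 1)) (T v.1 + v.2.2 • w),
          ℓ ((T ^ k) (T v.1 + v.2.2 • w) + T ((T ^ k) (T v.1 + v.2.2 • w))), 0) := by
    intro k
    induction k with
    | zero =>
      intro v
      constructor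
      · rw [zero_add, pow_one, pow_zero, hT']
        rfl
      · rw [pow_succ', zero_add, pow_one, Module.End.mul_apply, pow_one, pow_zero, hT' v, hT']
        simp
    | succ k ih =>
      intro v
      obtain ⟨-, ih2⟩ := ih v
      constructor
      · rw [ih2]
      · rw [pow_succ', Module.End.mul_apply, ih2, hT']
        refine Prod.ext ?_ (Prod.ext ?_ rfl)
        · change T ((T ^ (k + 1)) (T v.1 + v.2.2 • w)) + (0 : F) • w = (T ^ (k + 1 + 1)) (T v.1 + v.2.2 • w)
          rw [zero_smul, add_zero, pow_succ' T (k + 1), Module.End.mul_apply]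
        · change ℓ _ + Q w * 0 = ℓ _
          rw [mul_zero, add_zero]
  have hge : ∀ k, 2 * m ≤ k → T ^ k = 0 := by
    intro k hk
    rw [← Nat.sub_add_cancel hk, pow_add, h0, mul_zero]
  refine Uni.of (V := (Fin d → F) × F × F) (Q := Q') (T := T') ?_ ?_ ?_ ?_ (0, 0, 1) ?_
  · intro x hx
    refine Prod.ext (hQ _ fun y => ?_) (Prod.ext ?_ ?_)
    · have := hx (y, 0, 0)
      simp only [polar, hQ', Prod.fst_add, Prod.snd_add, add_zero, QuadraticMap.map_zero, mul_zero] at this
      rw [polar]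
      linear_combination this
    · have := hx (0, 0, 1)
      simp only [polar, hQ', Prod.fst_add, Prod.snd_add, add_zero, QuadraticMap.map_zero, mul_zero] at this
      change x.2.1 = 0
      linear_combination this
    · have := hx (0, 1, 0)
      simp only [polar, hQ', Prod.fst_add, Prod.snd_add, add_zero, QuadraticMap.map_zero, mul_zero] at this
      change x.2.2 = 0
      linear_combination this
  · have h3 := hs.prod (hasSign_mul (F := F))
    rw [mul_one] at h3
    exact h3
  · intro v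
    rw [hQ', hT', hQ']
    simp only [Prod.fst_add, Prod.snd_add, add_zero, hℓ]
    have h4 : v.1 + (T v.1 + v.2.2 • w) = (v.1 + T v.1) + v.2.2 • w := by abel
    rw [h4, Q_add, hT, QuadraticMap.map_smul, polar_Tself]
    simp only [smul_eq_mul]
    linear_combination (v.2.2 ^ 2 * Q w + v.2.2 * polar Q (v.1 + T v.1) w) * h2
  · refine LinearMap.ext fun v => ?_
    have h5 : 2 * (m + 1) = 2 * m + 2 := by ring
    rw [h5, (hpow (2 * m) v).2, hge (2 * m + 1) (by omega), h0]
    simp
  · have h6 : 2 * (m + 1) - 1 = (2 * m - 1) + 2 := by omega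
    rw [h6, (hpow (2 * m - 1) (0, 0, 1)).2, hge (2 * m - 1 + 1) (by omega)]
    simp only [map_zero, zero_add, one_smul, LinearMap.zero_apply]
    have h7 : T ((T ^ (2 * m - 1)) w) = 0 := by
      rw [← Module.End.mul_apply, ← pow_succ', hge (2 * m - 1 + 1) (by omega)]
      rfl
    rw [h7, add_zero, hℓ]
    simp only [polar, hQ', Prod.fst_add, Prod.snd_add, add_zero, QuadraticMap.map_zero, mul_zero, zero_add, mul_one,
      sub_zero, Prod.mk_add_mk]
    exact hw

theorem uni_plus (m : ℕ) (hm : 1 ≤ m) : Uni F m 1 := by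
  induction m, hm using Nat.le_induction with
  | base => exact uni_one_plus
  | succ m hm ih => exact ih.step hm

theorem uni_minus (m : ℕ) (hm : 1 ≤ m) : Uni F m (-1) := by
  induction m, hm using Nat.le_induction with
  | base => exact uni_one_minus
  | succ m hm ih => exact ih.step hm

theorem one_add_pow_two_pow {V : Type*} [AddCommGroup V] [Module F V] (T : Module.End F V) (b : ℕ) :
    (1 + T) ^ 2 ^ b = 1 + T ^ 2 ^ b := by
  haveI : Fact (Nat.Prime 2) := ⟨Nat.prime_two⟩
  have h : ((1 : Polynomial F) + Polynomial.X) ^ 2 ^ b = 1 + Polynomial.X ^ 2 ^ b := by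
    rw [add_pow_char_pow, one_pow]
  have h1 := congrArg (Polynomial.aeval T) h
  simpa using h1

theorem Uni.elt {b : ℕ} (hb : 1 ≤ b) {ε : ℤ} (h : Uni F (mb b) ε) : Elt F (mb b) ε (2 ^ b) := by
  haveI : Fact (Nat.Prime 2) := ⟨Nat.prime_two⟩
  obtain ⟨d, Q, T, hQ, hs, hT, h0, w, hw⟩ := h
  obtain ⟨c, rfl⟩ : ∃ c, b = c + 1 := ⟨b - 1, by omega⟩
  have hm1 : 2 * mb (c + 1) ≤ 2 ^ (c + 1) ∧ 2 ^ c ≤ 2 * mb (c + 1) - 1 := by
    rcases c with _ | c
    · simp [mb]
    · simp only [mb]
      have := Nat.one_le_two_pow (n := c)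
      rw [pow_succ, pow_succ]
      omega
  refine ⟨by positivity, d, Q, 1 + T, hQ, hs, hT, ?_⟩
  refine orderOf_eq_prime_pow ?_ ?_
  · rw [one_add_pow_two_pow]
    intro h
    have h1 : T ^ 2 ^ c = 0 := by
      have := congrArg (fun X => X - 1) h
      simpa using this
    apply hw
    have h2 : T ^ (2 * mb (c + 1) - 1) = 0 := by
      rw [← Nat.sub_add_cancel hm1.2, pow_add, h1, mul_zero]
    rw [h2, LinearMap.zero_apply, polar_zero_left]
  · rw [one_add_pow_two_pow]
    have h2 : T ^ 2 ^ (c + 1) = 0 := by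
      rw [← Nat.sub_add_cancel hm1.1, pow_add, h0, mul_zero]
    rw [h2, add_zero]

theorem mb_pos {b : ℕ} (hb : 1 ≤ b) : 1 ≤ mb b := by
  obtain ⟨c, rfl⟩ : ∃ c, b = c + 1 := ⟨b - 1, by omega⟩
  rcases c with _ | c
  · exact le_refl 1
  · simp [mb]

theorem elt_unip {b : ℕ} (hb : 1 ≤ b) {ε : ℤ} (hε : ε = 1 ∨ ε = -1) : Elt F (mb b) ε (2 ^ b) := by
  rcases hε with rfl | rfl
  · exact (uni_plus _ (mb_pos hb)).elt hb
  · exact (uni_minus _ (mb_pos hb)).elt hb

/-! ### Least common multiples of tori -/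

theorem TL.elt {n L : ℕ} (h : TL (Nat.card F) n L) : ∃ ε : ℤ, (ε = 1 ∨ ε = -1) ∧ Elt F n ε L := by
  induction h with
  | one n => exact ⟨1, Or.inl rfl, elt_one n⟩
  | pos k hk h ih =>
    obtain ⟨ε, hε, he⟩ := ih
    refine ⟨ε * 1, by simpa using hε, ?_⟩
    rw [Nat.lcm_comm]
    exact he.prod (elt_tor_plus hk (dvd_refl _))
  | neg k hk h ih =>
    obtain ⟨ε, hε, he⟩ := ih
    refine ⟨ε * (-1), by rcases hε with rfl | rfl <;> simp, ?_⟩
    rw [Nat.lcm_comm]
    exact he.prod (elt_tor_minus hk (dvd_refl _))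

theorem even_natCard : Even (Nat.card F) := by
  classical
  letI := Fintype.ofFinite F
  obtain ⟨k, hk, hkq⟩ := FiniteField.card F 2
  rw [Nat.card_eq_fintype_card, hkq]
  exact (Nat.even_pow.2 ⟨even_two, k.ne_zero⟩)

theorem TL.odd {q : ℕ} (hq : Even q) (hq0 : 0 < q) {n L : ℕ} (h : TL q n L) : Odd L := by
  have hl : ∀ a b : ℕ, Odd a → Odd b → Odd (Nat.lcm a b) := by
    intro a b ha hb
    have h1 : Odd (a * b) := ha.mul hb
    rw [← Nat.gcd_mul_lcm a b] at h1
    exact (Nat.odd_mul.1 h1).2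
  induction h with
  | one n => exact odd_one
  | pos k hk h ih =>
    refine hl _ _ ?_ ih
    have h1 : Even (q ^ k) := (Nat.even_pow.2 ⟨hq, by omega⟩)
    have h2 : 0 < q ^ k := Nat.pow_pos hq0
    obtain ⟨r, hr⟩ := h1
    exact ⟨r - 1, by omega⟩
  | neg k hk h ih =>
    refine hl _ _ ?_ ih
    have h1 : Even (q ^ k) := (Nat.even_pow.2 ⟨hq, by omega⟩)
    exact h1.add_one

/-- Orders of elements with a nontrivial `2`-part. -/
theorem elt_of_TL {b n L N : ℕ} (hb : 1 ≤ b) (hn : mb b ≤ n) (h : TL (Nat.card F) (n - mb b) L) (hN : N ∣ L * 2 ^ b)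
    {ε : ℤ} (hε : ε = 1 ∨ ε = -1) : Elt F n ε N := by
  obtain ⟨ε', hε', he⟩ := h.elt
  have h1 := he.prod (elt_unip (F := F) hb (ε := ε * ε') (by
    rcases hε with rfl | rfl <;> rcases hε' with rfl | rfl <;> simp))
  have h2 : ε' * (ε * ε') = ε := by
    rcases hε' with rfl | rfl <;> ring
  have h3 : n - mb b + mb b = n := by omega
  have h4 : Nat.lcm L (2 ^ b) = L * 2 ^ b := by
    apply Nat.Coprime.lcm_eq_mul
    have h5 := h.odd even_natCard Nat.card_pos
    exact Nat.Coprime.pow_right b (Nat.coprime_two_right.2 h5)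
  rw [h2, h3, h4] at h1
  exact h1.dvd hN

end

end Cfsg.Agent.H403
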