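import Cfsg.Agent.OrdDiv.Main

/-!
# The sporadic groups and the Tits group are determined by their orders (helper403)

`real_of_card` : a known nonabelian simple group whose order is that of a sporadic group or of the Tits group is that
group. `sporFac` : the list of the 27 names with orders and factorizations.
-/

set_option autoImplicit false
set_option maxRecDepth 100000

namespace Cfsg.Agent.H403

open Cfsg Cfsg.Agent.OrdDiv

universe u

/-- names, orders, factorizations -/
def sporFac : List (Grp × ℕ × List (ℕ × ℕ)) :=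
  [(.tits, 17971200, [(2,11),(3,3),(5,2),(13,1)]),
   (.m11, 7920, [(2,4),(3,2),(5,1),(11,1)]),
   (.m12, 95040, [(2,6),(3,3),(5,1),(11,1)]),
   (.m22, 443520, [(2,7),(3,2),(5,1),(7,1),(11,1)]),
   (.m23, 10200960, [(2,7),(3,2),(5,1),(7,1),(11,1),(23,1)]),
   (.m24, 244823040, [(2,10),(3,3),(5,1),(7,1),(11,1),(23,1)]),
   (.j1, 175560, [(2,3),(3,1),(5,1),(7,1),(11,1),(19,1)]),
   (.j2, 604800, [(2,7),(3,3),(5,2),(7,1)]),
   (.j3, 50232960, [(2,7),(3,5),(5,1),(17,1),(19,1)]),
   (.j4, 86775571046077562880, [(2,21),(3,3),(5,1),(7,1),(11,3),(23,1),(29,1),(31,1),(37,1),(43,1)]),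
   (.co1, 4157776806543360000, [(2,21),(3,9),(5,4),(7,2),(11,1),(13,1),(23,1)]),
   (.co2, 42305421312000, [(2,18),(3,6),(5,3),(7,1),(11,1),(23,1)]),
   (.co3, 495766656000, [(2,10),(3,7),(5,3),(7,1),(11,1),(23,1)]),
   (.mcl, 898128000, [(2,7),(3,6),(5,3),(7,1),(11,1)]),
   (.hs, 44352000, [(2,9),(3,2),(5,3),(7,1),(11,1)]),
   (.suz, 448345497600, [(2,13),(3,7),(5,2),(7,1),(11,1),(13,1)]),
   (.he, 4030387200, [(2,10),(3,3),(5,2),(7,3),(17,1)]),
   (.ru, 145926144000, [(2,14),(3,3),(5,3),(7,1),(13,1),(29,1)]),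
   (.on, 460815505920, [(2,9),(3,4),(5,1),(7,3),(11,1),(19,1),(31,1)]),
   (.ly, 51765179004000000, [(2,8),(3,7),(5,6),(7,1),(11,1),(31,1),(37,1),(67,1)]),
   (.fi22, 64561751654400, [(2,17),(3,9),(5,2),(7,1),(11,1),(13,1)]),
   (.fi23, 4089470473293004800, [(2,18),(3,13),(5,2),(7,1),(11,1),(13,1),(17,1),(23,1)]),
   (.fi24, 1255205709190661721292800, [(2,21),(3,16),(5,2),(7,3),(11,1),(13,1),(17,1),(23,1),(29,1)]),
   (.hn, 273030912000000, [(2,14),(3,6),(5,6),(7,1),(11,1),(19,1)]),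
   (.th, 90745943887872000, [(2,15),(3,10),(5,3),(7,2),(13,1),(19,1),(31,1)]),
   (.b, 4154781481226426191177580544000000, [(2,41),(3,13),(5,6),(7,2),(11,1),(13,1),(17,1),(19,1),(23,1),(31,1),(47,1)]),
   (.m, 808017424794512875886459904961710757005754368000000000, [(2,46),(3,20),(5,9),(7,6),(11,2),(13,3),(17,1),(19,1),(23,1),(29,1),(31,1),(41,1),(47,1),(59,1),(71,1)])]

theorem fac_valid : sporFac.all (fun x => valid x.2.2 x.2.1) = true := by decide +kernel

theorem fac_cands : sporFac.all (fun x => decide ((cands x.2.2 x.2.1).filter (fun g => ordN g == x.2.1) = [x.1])) = true := by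
  decide +kernel

/-- **A known simple group of sporadic order is that sporadic group** -/
theorem real_of_card (T : OrderTable.{u}) {S : Type u} [Group S] (h : IsKnownSimple' S)
    (hna : ¬ ∀ a b : S, a * b = b * a) {x : Grp × ℕ × List (ℕ × ℕ)} (hx : x ∈ sporFac) (hc : Nat.card S = x.2.1) :
    Real x.1 S := by
  have h1 := List.all_eq_true.1 fac_valid x hx
  have h2 := of_decide_eq_true (List.all_eq_true.1 fac_cands x hx)
  obtain ⟨g, hg, hr⟩ := exists_real_filter T h hna h1 (dvd_of_eq hc) (fun n => n == x.2.1) (by rw [hc]; simp)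
  rw [h2, List.mem_singleton] at hg
  rw [← hg]
  exact hr

end Cfsg.Agent.H403
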