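import Cfsg.Agent.H403.LinEv
import Cfsg.Agent.ClassicalGeometry.GUBasic
import Cfsg.Agent.LieClassical.SUBasic

/-!
# Lifting elements of `PSL_n(q)` and `PSU_n(q)` to matrices (helper403)

`Lin E L e n q F` : every `g : L` is represented by a matrix `M` of determinant one over `F` whose multiset of eigenvalues is
closed under `λ ↦ λ ^ (± q)`, with `g ^ k = 1` iff `M ^ k` is scalar.
-/

set_option autoImplicit false
set_option linter.unusedSectionVars false

namespace Cfsg.Agent.H403

open Polynomial Function NumTop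

/-- every element of `L` is represented by a matrix -/
def Lin (E : Type*) [Field E] [IsAlgClosed E] (L : Type*) [Group L] (e : Bool) (n q : ℕ) (F : Type*) [Field F]
    [Algebra F E] : Prop :=
  ∀ g : L, ∃ M : Matrix (Fin n) (Fin n) F, M.det = 1 ∧ Cl (xv e q) (evs E M) ∧
    ∀ k : ℕ, g ^ k = 1 ↔ ∃ c : F, M ^ k = c • (1 : Matrix (Fin n) (Fin n) F)

section

variable {F : Type*} [Field F] [Fintype F] {E : Type*} [Field E] [IsAlgClosed E] [Algebra F E]

/-- if `#F = q ^ (t + 1)` then `y ↦ y ^ q` is a ring homomorphism of `E` -/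
theorem exists_powHomE {q t : ℕ} (hF : Fintype.card F = q ^ (t + 1)) (E : Type*) [Field E] [Algebra F E] :
    ∃ Φ : E →+* E, ∀ y, Φ y = y ^ q := by
  classical
  obtain ⟨p, hp⟩ := CharP.exists F
  obtain ⟨k, hpp, hk⟩ := FiniteField.card F p
  have hf := Fact.mk hpp
  have hdvd : q ∣ p ^ (k : ℕ) := by
    rw [← hk, hF]
    exact dvd_pow_self q (Nat.succ_ne_zero t)
  obtain ⟨j, -, hj⟩ := (Nat.dvd_prime_pow hpp).1 hdvd
  have : CharP E p := charP_of_injective_algebraMap (algebraMap F E).injective p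
  refine ⟨iterateFrobenius E p j, fun y => ?_⟩
  rw [iterateFrobenius_def, hj]

theorem inj_xv {q t : ℕ} (hF : Fintype.card F = q ^ (t + 1)) (e : Bool) :
    Injective fun y : E => y ^ xv e q := by
  obtain ⟨Φ, hΦ⟩ := exists_powHomE hF E
  have h1 : Injective fun y : E => y ^ q := by
    intro a b hab
    apply Φ.injective
    rw [hΦ, hΦ]
    exact hab
  intro a b hab
  unfold xv at hab
  cases e with
  | true =>
    simp only [if_true, zpow_natCast] at hab
    exact h1 hab
  | false =>
    simp only [Bool.false_eq_true, if_false, zpow_neg, zpow_natCast] at hab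
    exact h1 (inv_injective hab)

theorem isUnit_of_det {n : ℕ} {M : Matrix (Fin n) (Fin n) F} (h : M.det = 1) : IsUnit M := by
  rw [Matrix.isUnit_iff_isUnit_det, h]
  exact isUnit_one

theorem lin_psl {n q : ℕ} (hF : Fintype.card F = q) :
    Lin E (Matrix.ProjectiveSpecialLinearGroup (Fin n) F) true n q F := by
  intro g
  obtain ⟨A, rfl⟩ := QuotientGroup.mk_surjective g
  refine ⟨A, A.2, ⟨inj_xv (t := 0) (by rw [hF, pow_one]) true, ?_, zero_notMem_evs E _ (isUnit_of_det A.2)⟩, fun k => ?_⟩
  · have h := evs_frob E (A : Matrix (Fin n) (Fin n) F)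
    rw [hF] at h
    conv_rhs => rw [← h]
    refine Multiset.map_congr rfl fun y _ => ?_
    simp [xv]
  · rw [← QuotientGroup.mk_pow, QuotientGroup.eq_one_iff, Matrix.SpecialLinearGroup.mem_center_iff]
    constructor
    · rintro ⟨r, -, hr⟩
      refine ⟨r, ?_⟩
      rw [← Matrix.SpecialLinearGroup.coe_pow, ← hr, Matrix.scalar_apply, Matrix.smul_one_eq_diagonal]
    · rintro ⟨c, hc⟩
      refine ⟨c, ?_, ?_⟩
      · have h1 : (((A ^ k : Matrix.SpecialLinearGroup (Fin n) F)) : Matrix (Fin n) (Fin n) F).det = 1 := (A ^ k).2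
        rw [Matrix.SpecialLinearGroup.coe_pow, hc, Matrix.det_smul, Matrix.det_one, mul_one] at h1
        exact h1
      · rw [Matrix.SpecialLinearGroup.coe_pow, hc, Matrix.scalar_apply, Matrix.smul_one_eq_diagonal]

/-- eigenvalues of a unitary matrix -/
theorem evs_unitary {n q : ℕ} (hF : Fintype.card F = q ^ 2) {M : Matrix (Fin n) (Fin n) F}
    (h : M.transpose * M.map (fun x => x ^ q) = 1) : (evs E M).map (fun y => y ^ xv false q) = evs E M := by
  obtain ⟨Φ, hΦ⟩ := exists_powHomE (t := 1) hF E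
  obtain ⟨σ, hσ⟩ := ClassicalGeometry.GUBasic.exists_powHom hF
  have hMσ : M.map (fun x => x ^ q) = M.map σ := by
    ext i j
    simp [hσ]
  rw [hMσ] at h
  have h1 : evs E (M.map σ) = (evs E M).map (fun y => y ^ q) := by
    have hs : (M.charpoly.map (algebraMap F E)).Splits := IsAlgClosed.splits _
    rw [evs, Matrix.charpoly_map, Polynomial.map_map]
    have h2 : (algebraMap F E).comp σ = Φ.comp (algebraMap F E) := by
      ext a
      simp [hσ, hΦ]
    rw [h2, ← Polynomial.map_map, hs.roots_map Φ, evs]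
    exact Multiset.map_congr rfl fun y _ => hΦ y
  have hu : IsUnit M := by
    rw [Matrix.isUnit_iff_isUnit_det]
    have h3 := congrArg Matrix.det h
    rw [Matrix.det_mul, Matrix.det_transpose, Matrix.det_one] at h3
    exact IsUnit.of_mul_eq_one _ h3
  have h2 : M.map σ = (M.transpose)⁻¹ := (Matrix.inv_eq_right_inv h).symm
  have h3 : evs E (M.map σ) = (evs E M).map (·⁻¹) := by
    rw [h2, evs_inv E _ ((Matrix.isUnit_transpose M).2 hu), evs_transpose]
  rw [h1] at h3
  have h4 : (evs E M).map (fun y => y ^ xv false q) = ((evs E M).map (fun y => y ^ q)).map (·⁻¹) := by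
    rw [Multiset.map_map]
    refine Multiset.map_congr rfl fun y _ => ?_
    simp [xv]
  rw [h4, h3, Multiset.map_map]
  simp

theorem lin_psu {n q : ℕ} (hF : Fintype.card F = q ^ 2) (hn : 3 ≤ n) :
    Lin E (Cfsg.PSU n F q) false n q F := by
  have hq0 : q ≠ 0 := by
    rintro rfl
    rw [zero_pow (by norm_num)] at hF
    exact Fintype.card_ne_zero hF
  intro g
  obtain ⟨A, rfl⟩ := QuotientGroup.mk_surjective g
  have hAp : ∀ u v : Fin n → F, hermForm n F q (((A : Matrix.SpecialLinearGroup (Fin n) F) : Matrix (Fin n) (Fin n) F).mulVec u)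
      (((A : Matrix.SpecialLinearGroup (Fin n) F) : Matrix (Fin n) (Fin n) F).mulVec v) = hermForm n F q u v := A.2
  have hdet : ((A : Matrix.SpecialLinearGroup (Fin n) F) : Matrix (Fin n) (Fin n) F).det = 1 :=
    (A : Matrix.SpecialLinearGroup (Fin n) F).2
  refine ⟨((A : Matrix.SpecialLinearGroup (Fin n) F) : Matrix (Fin n) (Fin n) F), hdet, ⟨inj_xv (t := 1) hF false, ?_,
    zero_notMem_evs E _ (isUnit_of_det hdet)⟩, fun k => ?_⟩
  · exact evs_unitary hF (ClassicalGeometry.GUBasic.transpose_mul_map hq0 hAp)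
  · rw [← QuotientGroup.mk_pow, QuotientGroup.eq_one_iff]
    have hpow : (((A ^ k : Cfsg.SU n F q) : Matrix.SpecialLinearGroup (Fin n) F) : Matrix (Fin n) (Fin n) F) =
        ((A : Matrix.SpecialLinearGroup (Fin n) F) : Matrix (Fin n) (Fin n) F) ^ k := by
      rw [Subgroup.coe_pow, Matrix.SpecialLinearGroup.coe_pow]
    constructor
    · intro h
      obtain ⟨c, hcn, hcq, hc⟩ := (LieClassical.SUBasic.mem_center_SU_iff hF hn _).1 h
      refine ⟨c, ?_⟩
      rw [← hpow, hc, LieClassical.SUBasic.coe_suScalar q c hcn hcq, Matrix.smul_one_eq_diagonal]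
    · rintro ⟨c, hc⟩
      rw [Subgroup.mem_center_iff]
      intro B
      apply Subtype.ext
      apply Subtype.ext
      rw [Subgroup.coe_mul, Subgroup.coe_mul, Matrix.SpecialLinearGroup.coe_mul, Matrix.SpecialLinearGroup.coe_mul,
        hpow, hc]
      simp

end

end Cfsg.Agent.H403
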