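import Cfsg.Agent.H403.EltUni
import Cfsg.Agent.S0246
import Cfsg.Agent.S0752

/-!
# Orthogonal elements in the symplectic group, characteristic two (helper403)
-/

set_option autoImplicit false
set_option linter.unusedSectionVars false
set_option linter.style.haveILetI false

namespace Cfsg.Agent.H403

open QuadraticMap
open Cfsg.Agent.LieClassical.OrthCore Cfsg.Agent.LieClassical.OrthForms
open Cfsg.Agent.H403.Classify

section

variable {F : Type*} [Field F] [Finite F] [CharP F 2]

/-- An isometry of an alternating form in characteristic two gives an element of the symplectic group of the same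
order. -/
theorem exists_symplectic_of_alt {V : Type*} [AddCommGroup V] [Module F V] [FiniteDimensional F V]
    (B : LinearMap.BilinForm F V) (hA : B.IsAlt) (hB : ∀ x, (∀ y, B x y = 0) → x = 0) {n : ℕ}
    (hn : Module.finrank F V = 2 * n) (g : Module.End F V) (hg : ∀ x y, B (g x) (g y) = B x y) :
    ∃ M : Matrix.symplecticGroup (Fin n) F, orderOf M = orderOf g := by
  classical
  obtain ⟨m, k, b, h1, h2, h3, h4⟩ := Cfsg.Agent.S0752.result B hA
  have hk : k = 0 := by
    rcases Nat.eq_zero_or_pos k with h | h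
    · exact h
    · exact absurd (hB _ (h4 ⟨0, h⟩)) (b.ne_zero _)
  subst hk
  have hmn : m = n := by
    have := Module.finrank_eq_card_basis b
    rw [hn] at this
    simp only [Fintype.card_sum, Fintype.card_fin] at this
    omega
  subst hmn
  let b' : Module.Basis (Fin m ⊕ Fin m) F V := b.reindex (Equiv.sumEmpty (Fin m ⊕ Fin m) (Fin 0))
  have hb' : ∀ i, b' i = b (Sum.inl i) := by
    intro i
    simp [b']
  have hG : LinearMap.toMatrix₂ b' b' B = Matrix.J (Fin m) F := by
    have hneg : (-1 : F) = 1 := CharTwo.neg_eq _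
    ext i j
    rw [LinearMap.toMatrix₂_apply, hb', hb', Matrix.J]
    rcases i with i | i <;> rcases j with j | j
    · rw [h2, Matrix.fromBlocks_apply₁₁, Matrix.zero_apply]
    · rw [h1, Matrix.fromBlocks_apply₁₂, Matrix.neg_apply, Matrix.one_apply]
      split_ifs
      · rw [hneg]
      · rw [neg_zero]
    · have h5 : B (b (Sum.inl (Sum.inr i))) (b (Sum.inl (Sum.inl j))) =
          -B (b (Sum.inl (Sum.inl j))) (b (Sum.inl (Sum.inr i))) := (LinearMap.IsAlt.neg hA _ _).symm
      rw [h5, h1, Matrix.fromBlocks_apply₂₁, Matrix.one_apply]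
      by_cases hij : i = j
      · rw [if_pos hij.symm, if_pos hij, hneg]
      · rw [if_neg (fun h => hij h.symm), if_neg hij, neg_zero]
    · rw [h3, Matrix.fromBlocks_apply₂₂, Matrix.zero_apply]
  have hM : (LinearMap.toMatrixAlgEquiv b' g) ∈ Matrix.symplecticGroup (Fin m) F := by
    rw [SymplecticGroup.mem_iff', ← hG]
    have h6 : (B.compl₁₂ g g) = B := by
      ext x y
      exact hg x y
    conv_rhs => rw [← h6]
    rw [LinearMap.toMatrix₂_compl₁₂ b' b' b' b']
    rfl
  refine ⟨⟨_, hM⟩, ?_⟩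
  rw [← orderOf_injective (Matrix.symplecticGroup (Fin m) F).subtype Subtype.coe_injective]
  exact MulEquiv.orderOf_eq (LinearMap.toMatrixAlgEquiv b').toMulEquiv g

theorem exists_symplectic_of_quad {V : Type*} [AddCommGroup V] [Module F V] [FiniteDimensional F V]
    (Q : QuadraticForm F V) (hQ : Nondeg Q) {n : ℕ}
    (hn : Module.finrank F V = 2 * n) (g : Module.End F V) (hg : ∀ x, Q (g x) = Q x) :
    ∃ M : Matrix.symplecticGroup (Fin n) F, orderOf M = orderOf g := by
  refine exists_symplectic_of_alt (polarBilin Q) ?_ ?_ hn g ?_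
  · intro x
    change polar Q x x = 0
    rw [polar_self', CharTwo.two_eq_zero, zero_mul]
  · exact fun x h => hQ x h
  · intro x y
    change polar Q (g x) (g y) = polar Q x y
    rw [polar, polar, ← map_add, hg, hg, hg]

theorem center_symplectic {n : ℕ} (hn : 1 ≤ n) : Subgroup.center (Matrix.symplecticGroup (Fin n) F) = ⊥ := by
  classical
  letI := Fintype.ofFinite F
  have h1 := Cfsg.Agent.S0246.result (F := F) (q := Fintype.card F) rfl n hn
  have h2 : Nat.gcd 2 (Fintype.card F - 1) = 1 := by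
    have h3 : Even (Fintype.card F) := by
      rw [← Nat.card_eq_fintype_card]; exact even_natCard
    have h4 : 0 < Fintype.card F := Fintype.card_pos
    have h5 : Odd (Fintype.card F - 1) := by
      obtain ⟨r, hr⟩ := h3
      exact ⟨r - 1, by omega⟩
    exact Nat.coprime_two_left.2 h5
  rw [h2] at h1
  exact Subgroup.card_eq_one.1 h1

theorem mem_range_PSp {n : ℕ} (hn : 1 ≤ n) (N : ℕ) :
    N ∈ Set.range (orderOf : Cfsg.PSp n F → ℕ) ↔ ∃ M : Matrix.symplecticGroup (Fin n) F, orderOf M = N := by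
  have hinj : Function.Injective
      (QuotientGroup.mk' (Subgroup.center (Matrix.symplecticGroup (Fin n) F))) := by
    rw [← MonoidHom.ker_eq_bot_iff, QuotientGroup.ker_mk', center_symplectic hn]
  constructor
  · rintro ⟨x, rfl⟩
    obtain ⟨M, rfl⟩ := QuotientGroup.mk'_surjective _ x
    exact ⟨M, (orderOf_injective _ hinj M).symm⟩
  · rintro ⟨M, rfl⟩
    exact ⟨QuotientGroup.mk' _ M, orderOf_injective _ hinj M⟩

/-- Elements of minus-type orthogonal groups. -/
theorem Elt.mem_isometryGroup {m N : ℕ} (h : Elt F (m + 1) (-1) N) {a b : F} (hab : Aniso a b) :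
    N ∈ Set.range (orderOf : ↥(Cfsg.isometryGroup F (Cfsg.quadFormMinus m F a b)) → ℕ) := by
  obtain ⟨hN, d, Q, g, hQ, hs, hg, ho⟩ := h
  obtain ⟨m', hm', hmin⟩ := isMinus_of_hasSign hQ hs
  obtain rfl : m = m' := by omega
  obtain ⟨e, he⟩ := hmin.exists_equiv hab
  let g' : Module.End F ((Fin m ⊕ Fin m) ⊕ Fin 2 → F) := e.symm.conj g
  have hg' : ∀ v, minusForm m F a b (g' v) = minusForm m F a b v := by
    intro v
    change minusForm m F a b (e.symm (g (e v))) = _
    rw [← he, LinearEquiv.apply_symm_apply, hg, he]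
  have ho' : orderOf g' = N := by
    rw [← ho]
    exact MulEquiv.orderOf_eq (LinearEquiv.conjRingEquiv e.symm).toMulEquiv g
  let M : Matrix ((Fin m ⊕ Fin m) ⊕ Fin 2) ((Fin m ⊕ Fin m) ⊕ Fin 2) F := LinearMap.toMatrixAlgEquiv' g'
  have hMo : orderOf M = N := by
    rw [← ho']
    exact MulEquiv.orderOf_eq (LinearMap.toMatrixAlgEquiv' : _ ≃ₐ[F] Matrix _ _ F).toMulEquiv g'
  have hMN : M ^ N = 1 := by rw [← hMo]; exact pow_orderOf_eq_one M
  let U : Matrix.GeneralLinearGroup ((Fin m ⊕ Fin m) ⊕ Fin 2) F :=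
    ⟨M, M ^ (N - 1), by rw [← pow_succ', Nat.sub_add_cancel hN, hMN],
      by rw [← pow_succ, Nat.sub_add_cancel hN, hMN]⟩
  have hU : U ∈ Cfsg.isometryGroup F (Cfsg.quadFormMinus m F a b) := by
    intro u _
    change Cfsg.quadFormMinus m F a b (M.mulVec u) = Cfsg.quadFormMinus m F a b u
    rw [← coe_minusForm]
    have h1 : M.mulVec u = g' u := by
      change Matrix.toLin' M u = g' u
      rw [show Matrix.toLin' M = g' from Matrix.toLin'_toMatrix' g']
    rw [h1, hg']
  refine ⟨⟨U, hU⟩, ?_⟩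
  rw [Subgroup.orderOf_mk, ← hMo, ← orderOf_units]

/-- Conversely, orders in the orthogonal group occur in the symplectic group. -/
theorem mem_symplectic_of_isometryGroup {m N : ℕ} {a b : F} (hab : Aniso a b)
    (h : N ∈ Set.range (orderOf : ↥(Cfsg.isometryGroup F (Cfsg.quadFormMinus m F a b)) → ℕ)) :
    ∃ M : Matrix.symplecticGroup (Fin (m + 1)) F, orderOf M = N := by
  obtain ⟨g, rfl⟩ := h
  let M : Matrix ((Fin m ⊕ Fin m) ⊕ Fin 2) ((Fin m ⊕ Fin m) ⊕ Fin 2) F := g.1.1
  have hM : orderOf M = orderOf g := by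
    rw [← Subgroup.orderOf_coe, ← orderOf_units]
  obtain ⟨S, hS⟩ := exists_symplectic_of_quad (minusForm m F a b) (nondeg_minusForm m F a b hab) (n := m + 1) (by
    rw [Module.finrank_fintype_fun_eq_card]
    simp only [Fintype.card_sum, Fintype.card_fin]
    ring) (Matrix.toLinAlgEquiv' M) (fun v => by
      rw [coe_minusForm]
      exact g.2 v v)
  refine ⟨S, ?_⟩
  rw [hS, ← hM]
  exact MulEquiv.orderOf_eq (Matrix.toLinAlgEquiv' : Matrix _ _ F ≃ₐ[F] _).toMulEquiv M

end

end Cfsg.Agent.H403
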