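import Cfsg.Agent.H403.NumSporChk

/-!
# The finite check for sporadic factors: the theorem (helper403)
-/

set_option autoImplicit false

namespace Cfsg.Agent.H403.NumSpor

open Cfsg.Agent.H403.NumTop Cfsg.Agent.OrdDiv Cfsg.Agent.H365.Zsig

/-- for the indices of `na` the powers of primitive primes dividing `|x ^ i - 1|` divide `N` -/
def HA (e : Bool) (n q N : ℕ) : Prop :=
  ∀ i ∈ na e n q, ∀ r k, r.Prime → orderOf ((xv e q : ℤ) : ZMod r) = i → r ^ k ∣ AA e i q → r ^ k ∣ N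

theorem prime_mem {l : List (ℕ × ℕ)} {N : ℕ} (hv : valid l N = true) {r : ℕ} (hr : r.Prime) (h : r ∣ N) :
    ∃ y ∈ l, y.1 = r := by
  unfold valid at hv
  rw [Bool.and_eq_true, beq_iff_eq] at hv
  rw [← hv.2, prodl, Prime.dvd_prod_iff hr.prime] at h
  obtain ⟨a, ha, hra⟩ := h
  obtain ⟨y, hy, rfl⟩ := List.mem_map.1 ha
  have h1 := List.all_eq_true.1 hv.1 y hy
  rw [Bool.and_eq_true] at h1
  exact ⟨y, hy, ((Nat.prime_dvd_prime_iff_eq hr (prime_of h1.1)).1 (hr.dvd_of_dvd_pow hra)).symm⟩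

theorem pow_le {l : List (ℕ × ℕ)} {N : ℕ} (hv : valid l N = true) {y : ℕ × ℕ} (hy : y ∈ l) {k : ℕ}
    (h : y.1 ^ k ∣ N) : k ≤ y.2 := by
  unfold valid at hv
  rw [Bool.and_eq_true] at hv
  have h1 := List.all_eq_true.1 hv.1 y hy
  rw [Bool.and_eq_true, bne_iff_ne, ne_eq, ← Nat.dvd_iff_mod_eq_zero] at h1
  by_contra hlt
  exact h1.2 ((pow_dvd_pow _ (by omega)).trans h)

theorem fst_prime {l : List (ℕ × ℕ)} {N : ℕ} (hv : valid l N = true) {y : ℕ × ℕ} (hy : y ∈ l) : y.1.Prime := by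
  unfold valid at hv
  rw [Bool.and_eq_true] at hv
  have h1 := List.all_eq_true.1 hv.1 y hy
  rw [Bool.and_eq_true] at h1
  exact prime_of h1.1

theorem dvd_prodl {l : List (ℕ × ℕ)} {y : ℕ × ℕ} (hy : y ∈ l) : y.1 ^ y.2 ∣ prodl l :=
  List.dvd_prod (List.mem_map.2 ⟨y, hy, rfl⟩)

theorem mod_eq_one {i r : ℕ} (hi : 3 ≤ i) (hr : r.Prime) (h : i ∣ r - 1) : r % i = 1 := by
  obtain ⟨c, hc⟩ := h
  have h1 : r = i * c + 1 := by have := hr.two_le; omega
  rw [h1, Nat.mul_add_mod]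
  exact Nat.mod_eq_of_lt (by omega)

/-- `Φ_j(q) ∣ j N_j` -/
theorem Ph_dvd_of {e : Bool} {n q N : ℕ} {l : List (ℕ × ℕ)} (hv : valid l N = true) (hq : 2 ≤ q)
    (hA : HA e n q N) {i : ℕ} (hi : i ∈ na e n q) (hi3 : 3 ≤ i) :
    Ph (nu e i) q ∣ nu e i * prodl (l.filter fun y => Nat.beq (y.1 % nu e i) 1) := by
  have hj := nu_ge (e := e) hi3
  refine (Nat.dvd_iff_prime_pow_dvd_dvd _ _).2 fun r k hr hk => ?_
  rcases Nat.eq_zero_or_pos k with h0 | h0
  · rw [h0, pow_zero]; exact one_dvd _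
  have hr1 : r ∣ Ph (nu e i) q := (dvd_pow_self r h0.ne').trans hk
  rcases prime_dvd_Ph (by omega) hq hr hr1 with h | ⟨t, m, hm1, hm2, hm3, hm4, hm5⟩
  · have h1 := pow_dvd_AA hq hr hi3 h hk
    have h2 := hA i hi r k hr (order_of_nu hr hi3 h) h1
    obtain ⟨y, hy, rfl⟩ := prime_mem hv hr ((dvd_pow_self _ h0.ne').trans h2)
    have h3 := pow_le hv hy h2
    have h4 : y ∈ l.filter fun y => Nat.beq (y.1 % nu e i) 1 := by
      rw [List.mem_filter, Nat.beq_eq]
      exact ⟨hy, mod_eq_one hj hr (order_dvd_pred hr (by omega) h)⟩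
    exact Dvd.dvd.mul_left ((pow_dvd_pow _ h3).trans (dvd_prodl h4)) _
  · have h1 := sq_not_dvd (by omega) hq hr hm1 hm2 hm3 hm4 hm5
    have h2 : k = 1 := by
      by_contra hk1
      exact h1 ((pow_dvd_pow _ (by omega)).trans hk)
    rw [h2, pow_one, hm1]
    exact Dvd.dvd.mul_right (Dvd.dvd.mul_right (dvd_pow_self _ (Nat.succ_ne_zero t)) _) _

theorem mem_na {e : Bool} {n q i : ℕ} (h : i ∈ na e n q) : i = n ∨ i = n - 1 := by
  unfold na at h
  revert h
  cases Nat.beq (q % 2) 0 <;> cases Nat.beq (n % 2) 1 <;>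
    cases (Nat.beq ((cond e (q - 1) (q + 1)) % 4) 0 && Nat.beq ((cond e (q - 1) (q + 1)) % Nat.gcd n (2 ^ n)) 0) <;>
    cases Nat.beq ((cond e (q - 1) (q + 1)) % (2 * Nat.gcd n (2 ^ n))) 0 <;>
    simp <;> omega

/-- there is a usable index -/
theorem exists_na {e : Bool} {n q : ℕ} (hn : 4 ≤ n) : ∃ i ∈ na e n q, ¬ Exc e i q := by
  by_cases h2 : q % 2 = 0
  · have h3 : na e n q = [n, n - 1] := by simp [na, h2]
    rw [h3]
    by_cases h4 : Exc e n q
    · refine ⟨n - 1, by simp, ?_⟩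
      rcases h4 with ⟨h5, h6, h7⟩ | ⟨h5, h6, h7⟩
      · rintro (⟨h8, h9, h10⟩ | ⟨h8, h9, h10⟩)
        · omega
        · rw [h5] at h8; exact absurd h8 (by decide)
      · omega
    · exact ⟨n, by simp, h4⟩
  · have h3 : Nat.beq (q % 2) 0 = false := by
      rw [← Bool.not_eq_true, Nat.beq_eq]; exact h2
    have hex : ∀ i, ¬ Exc e i q := by
      rintro i (⟨_, _, h⟩ | ⟨_, _, h⟩) <;> rw [h] at h2 <;> exact h2 rfl
    by_cases hno : n % 2 = 1
    · refine ⟨n, ?_, hex n⟩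
      have h4 : Nat.beq (n % 2) 1 = true := by rw [Nat.beq_eq]; exact hno
      simp [na, h3, h4]
    · have h4 : Nat.beq (n % 2) 1 = false := by rw [← Bool.not_eq_true, Nat.beq_eq]; exact hno
      by_cases h5 : (cond e (q - 1) (q + 1)) % (2 * Nat.gcd n (2 ^ n)) = 0
      · refine ⟨n, ?_, hex n⟩
        have h6 := Nat.dvd_of_mod_eq_zero h5
        have h7 : 2 ∣ Nat.gcd n (2 ^ n) := Nat.dvd_gcd (by omega) (dvd_pow_self 2 (by omega))
        have h8 : 4 ∣ 2 * Nat.gcd n (2 ^ n) := by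
          obtain ⟨c, hc⟩ := h7
          exact ⟨c, by omega⟩
        have h9 : (Nat.beq ((cond e (q - 1) (q + 1)) % 4) 0 &&
            Nat.beq ((cond e (q - 1) (q + 1)) % Nat.gcd n (2 ^ n)) 0) = true := by
          rw [Bool.and_eq_true, Nat.beq_eq, Nat.beq_eq]
          exact ⟨Nat.mod_eq_zero_of_dvd (h8.trans h6), Nat.mod_eq_zero_of_dvd ((Dvd.intro_left 2 rfl).trans h6)⟩
        unfold na
        rw [h3, h4, h9]
        simp
      · refine ⟨n - 1, ?_, hex _⟩
        have h6 : Nat.beq ((cond e (q - 1) (q + 1)) % (2 * Nat.gcd n (2 ^ n))) 0 = false := by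
          rw [← Bool.not_eq_true, Nat.beq_eq]; exact h5
        unfold na
        rw [h3, h4, h6]
        simp

theorem pos_exp : (sporFac.all fun x => x.2.2.all fun y => Nat.blt 0 y.2) = true := by decide +kernel

theorem le_71 : (sporFac.all fun x => x.2.2.all fun y => Nat.ble y.1 71) = true := by decide +kernel

theorem bnd : (sporFac.all fun x => (List.range 71).all fun j =>
    Nat.blt j 5 || Nat.beq j 6 || Nat.blt (j * prodl (x.2.2.filter fun y => Nat.beq (y.1 % j) 1)) (103 ^ 4)) = true := by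
  decide +kernel

theorem four_le_totient : ∀ j, 5 ≤ j → j ≤ 70 → j ≠ 6 → 4 ≤ j.totient := by
  have h : ∀ j ∈ Finset.Icc 5 70, j ≠ 6 → 4 ≤ j.totient := by decide +kernel
  intro j h5 h70
  exact h j (Finset.mem_Icc.2 ⟨h5, h70⟩)

theorem bound_q {x : Grp × ℕ × List (ℕ × ℕ)} (hx : x ∈ sporFac) {j q : ℕ} (hq : 2 ≤ q) (h5 : 5 ≤ j) (h6 : j ≠ 6)
    (h70 : j ≤ 70) (hM : Ph j q ∣ j * prodl (x.2.2.filter fun y => Nat.beq (y.1 % j) 1))
    (hpos : 0 < j * prodl (x.2.2.filter fun y => Nat.beq (y.1 % j) 1)) : q < 104 := by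
  have h1 := List.all_eq_true.1 (List.all_eq_true.1 bnd x hx) j (List.mem_range.2 (by omega))
  rw [Bool.or_eq_true, Bool.or_eq_true, Nat.blt_eq, Nat.beq_eq, Nat.blt_eq] at h1
  have h2 : j * prodl (x.2.2.filter fun y => Nat.beq (y.1 % j) 1) < 103 ^ 4 := by
    rcases h1 with (h | h) | h
    · omega
    · exact absurd h h6
    · exact h
  have h3 := Ph_lower (b := q) (m := j) hq
  have h4 : (q - 1) ^ 4 ≤ (q - 1) ^ j.totient := Nat.pow_le_pow_right (by omega) (four_le_totient j h5 h70 h6)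
  have h7 : (q - 1) ^ 4 < 103 ^ 4 := (h4.trans (h3.trans (Nat.le_of_dvd hpos hM))).trans_lt h2
  have h8 := lt_of_pow_lt_pow_left₀ 4 (by norm_num) h7
  omega

theorem prodl_pos {l : List (ℕ × ℕ)} (hl : ∀ y ∈ l, y.1.Prime) : 0 < prodl l := by
  unfold prodl
  refine Nat.pos_of_ne_zero fun h => ?_
  rw [List.prod_eq_zero_iff, List.mem_map] at h
  obtain ⟨y, hy, h1⟩ := h
  exact pow_ne_zero _ (hl y hy).ne_zero h1

theorem Ph_three' {q : ℕ} (hq : 2 ≤ q) : Ph 3 q = q ^ 2 + q + 1 := by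
  have h := Ph_cast (n := 3) (q := q) (by omega)
  rw [Polynomial.cyclotomic_three] at h
  simp at h
  exact_mod_cast h.symm

theorem Ph_four {q : ℕ} (hq : 2 ≤ q) : Ph 4 q = q ^ 2 + 1 := by
  have := Ph_two (q := q) (k := 1) hq
  simpa using this

theorem Ph_six {q : ℕ} (hq : 2 ≤ q) : (Ph 6 q : ℤ) = q ^ 2 - q + 1 := by
  have h := Ph_cast (n := 6) (q := q) (by omega)
  rw [Polynomial.cyclotomic_six] at h
  simp at h
  exact h.symm

theorem isq_unique {a b d : ℕ} (h1 : a * a ≤ d) (h2 : d < (a + 1) * (a + 1)) (h3 : b * b ≤ d)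
    (h4 : d < (b + 1) * (b + 1)) : a = b := by
  rcases lt_trichotomy a b with h | h | h
  · have : (a + 1) * (a + 1) ≤ b * b := Nat.mul_le_mul h h
    omega
  · exact h
  · have : (b + 1) * (b + 1) ≤ a * a := Nat.mul_le_mul h h
    omega

theorem fj_dvd {j : ℕ} (hj : j = 3 ∨ j = 4 ∨ j = 6) (l : List (ℕ × ℕ)) : j * prodl l = prodl (fj j ++ l) := by
  have h1 : prodl (fj j ++ l) = prodl (fj j) * prodl l := by simp [prodl]
  rw [h1]
  congr 1
  rcases hj with rfl | rfl | rfl <;> decide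

theorem fj_prime {j : ℕ} : ∀ y ∈ fj j, y.1.Prime := by
  intro y hy
  unfold fj at hy
  cases h1 : Nat.beq j 3 <;> cases h2 : Nat.beq j 4 <;> rw [h1] at hy <;> simp [h2] at hy
  · rcases hy with rfl | rfl <;> norm_num
  · rw [hy]; norm_num
  · rw [hy]; norm_num
  · rw [hy]; norm_num

def bigs (x : Grp × ℕ × List (ℕ × ℕ)) (j d s : ℕ) : Bool :=
  Nat.ble (s * s) d && (Nat.blt d ((s + 1) * (s + 1)) &&
    ([4, 5, 6, 7].all fun n => [true, false].all fun e =>
      (Nat.blt (s + cond (Nat.beq j 6) 1 0) 2 || chkx x e n (s + cond (Nat.beq j 6) 1 0))))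

theorem exists_bigs {x : Grp × ℕ × List (ℕ × ℕ)} {j d : ℕ} (h : bigx x j d = true) : ∃ s, bigs x j d s = true :=
  ⟨isq d, h⟩

/-- `x` with index in `{3, 4, 6}` -/
theorem chkx_big {x : Grp × ℕ × List (ℕ × ℕ)} (hx : x ∈ sporFac) (hv : valid x.2.2 x.2.1 = true) {e : Bool} {n q j : ℕ}
    (hq : 2 ≤ q) (hj : j = 3 ∨ j = 4 ∨ j = 6) (hn : n = 4 ∨ n = 5 ∨ n = 6 ∨ n = 7)
    (hM : Ph j q ∣ j * prodl (x.2.2.filter fun y => Nat.beq (y.1 % j) 1)) : chkx x e n q = true := by
  rw [fj_dvd hj] at hM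
  have h1 := mem_divl (d := Ph j q) (fun y hy => by
    rcases List.mem_append.1 hy with h | h
    · exact fj_prime y h
    · exact fst_prime hv (List.mem_filter.1 h).1) hM
  have h2 := List.all_eq_true.1 (List.all_eq_true.1 (List.all_eq_true.1 big x hx) j (by
    rcases hj with rfl | rfl | rfl <;> simp)) _ h1
  obtain ⟨s, h2⟩ := exists_bigs h2
  unfold bigs at h2
  rw [Bool.and_eq_true, Bool.and_eq_true, Nat.ble_eq, Nat.blt_eq] at h2
  obtain ⟨h3, h4, h5⟩ := h2
  clear h1 hM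
  have h6 : s + cond (Nat.beq j 6) 1 0 = q := by
    clear h5
    rcases hj with rfl | rfl | rfl
    · rw [Ph_three' hq] at *
      exact isq_unique h3 h4 (b := q) (by nlinarith) (by nlinarith)
    · rw [Ph_four hq] at *
      exact isq_unique h3 h4 (b := q) (by nlinarith) (by nlinarith)
    · have h7 := Ph_six hq
      have h8 : Ph 6 q + q = q ^ 2 + 1 := by
        have : ((Ph 6 q + q : ℕ) : ℤ) = ((q ^ 2 + 1 : ℕ) : ℤ) := by push_cast; rw [h7]; ring
        exact_mod_cast this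
      obtain ⟨c, rfl⟩ : ∃ c, q = c + 1 := ⟨q - 1, by omega⟩
      have := isq_unique h3 h4 (b := c) (by nlinarith) (by nlinarith)
      rw [this]
      rfl
  rw [h6] at h5
  have h7 := List.all_eq_true.1 (List.all_eq_true.1 h5 n (by
    rcases hn with rfl | rfl | rfl | rfl <;> simp)) e (by cases e <;> simp)
  rw [Bool.or_eq_true, Nat.blt_eq] at h7
  rcases h7 with h7 | h7
  · omega
  · exact h7

theorem not_pp {a b q : ℕ} (ha : a.Prime) (hb : b.Prime) (hab : a ≠ b) (h1 : a ∣ q) (h2 : b ∣ q)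
    (h : IsPrimePow q) : False := by
  obtain ⟨p, k, hp, hk, rfl⟩ := h
  have hp' := hp.nat_prime
  have h3 := (Nat.prime_dvd_prime_iff_eq ha hp').1 (ha.dvd_of_dvd_pow h1)
  have h4 := (Nat.prime_dvd_prime_iff_eq hb hp').1 (hb.dvd_of_dvd_pow h2)
  exact hab (h3.trans h4.symm)

/-- **The finite check.** -/
theorem num {x : Grp × ℕ × List (ℕ × ℕ)} (hx : x ∈ sporFac) {e : Bool} {n q : ℕ} (hn : 4 ≤ n) (hpp : IsPrimePow q)
    (hne : ¬ (e = false ∧ n = 5 ∧ q = 2)) (hA : HA e n q x.2.1) (hB : ∀ r : ℕ, r.Prime → r ∣ x.2.1 → r ∣ ordL e n q) :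
    (x.1, n, q, e) ∈ SV := by
  have hq : 2 ≤ q := hpp.two_le
  have hv : valid x.2.2 x.2.1 = true := List.all_eq_true.1 fac_valid x hx
  have hle : ∀ r : ℕ, r.Prime → r ∣ x.2.1 → r ≤ 71 := by
    intro r hr hrN
    obtain ⟨y, hy, rfl⟩ := prime_mem hv hr hrN
    have := List.all_eq_true.1 (List.all_eq_true.1 le_71 x hx) y hy
    rwa [Nat.ble_eq] at this
  -- the indices are at most 70
  have h70 : ∀ i ∈ na e n q, i ≤ 70 ∧ nu e i ≤ 70 := by
    intro i hi
    have hi3 : 3 ≤ i := by rcases mem_na hi with h | h <;> omega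
    by_cases hex : Exc e i q
    · rcases hex with ⟨h1, h2, h3⟩ | ⟨h1, h2, h3⟩
      · subst h1 h2; simp [nu]
      · subst h1 h2; simp [nu]
    · obtain ⟨r, hr, hr1, hr2⟩ := exists_prime hq hi3 hex
      have hf := Fact.mk hr
      have h1 : r ^ 1 ∣ AA e i q := by
        rw [pow_one, dvd_AA_iff (by omega), ← hr2]
        exact pow_orderOf_eq_one _
      have h2 := hA i hi r 1 hr hr2 h1
      rw [pow_one] at h2
      have h3 := hle r hr h2
      have h4 := Nat.le_of_dvd (by have := hr.two_le; omega) (order_dvd_pred hr (by omega) hr2)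
      have h5 := Nat.le_of_dvd (by have := hr.two_le; omega)
        (order_dvd_pred hr (by have := nu_ge (e := e) hi3; omega) hr1)
      constructor <;> omega
  have hchk : chkx x e n q = true := by
    obtain ⟨i, hi, hex⟩ := exists_na (e := e) (q := q) hn
    have hi3 : 3 ≤ i := by rcases mem_na hi with h | h <;> omega
    have hin := mem_na hi
    have hi70 := h70 i hi
    have hM := Ph_dvd_of hv hq hA hi hi3
    have hj3 := nu_ge (e := e) hi3
    by_cases hj : nu e i = 3 ∨ nu e i = 4 ∨ nu e i = 6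
    · refine chkx_big hx hv hq hj ?_ hM
      have hii : i = 3 ∨ i = 4 ∨ i = 6 := by
        unfold nu at hj
        cases e with
        | true => simpa using hj
        | false =>
          simp only [Bool.false_eq_true, if_false, beq_iff_eq] at hj
          split_ifs at hj <;> omega
      omega
    · have hq104 : q < 104 := by
        refine bound_q hx hq (j := nu e i) (by omega) (by omega) hi70.2 hM ?_
        exact Nat.mul_pos (by omega) (prodl_pos fun y hy => fst_prime hv (List.mem_filter.1 hy).1)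
      exact chkx_small hx hn (by omega) hq hq104
  unfold chkx at hchk
  have h1 : ((na e n q).all fun i => Nat.ble i 70) = true :=
    List.all_eq_true.2 fun i hi => by rw [Nat.ble_eq]; exact (h70 i hi).1
  rw [h1, Bool.not_true, Bool.false_or, Bool.and_eq_true] at hchk
  obtain ⟨hcop, h2⟩ := hchk
  have h3 : ((na e n q).all fun i => Nat.beq (x.2.1 % ppf e i q) 0) = true := by
    refine List.all_eq_true.2 fun i hi => ?_
    rw [Nat.beq_eq]
    apply Nat.mod_eq_zero_of_dvd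
    have hi3 : 3 ≤ i := by rcases mem_na hi with h | h <;> omega
    have hc := List.all_eq_true.1 hcop i hi
    refine (Nat.dvd_iff_prime_pow_dvd_dvd _ _).2 fun r k hr hk => ?_
    rcases Nat.eq_zero_or_pos k with h0 | h0
    · rw [h0, pow_zero]; exact one_dvd _
    obtain ⟨h4, h5⟩ := order_of_ppf hq (by omega) hc hr h0 hk
    exact hA i hi r k hr h4 h5
  have h4 : (x.2.2.all fun y => Nat.beq (ordL e n q % y.1) 0) = true := by
    refine List.all_eq_true.2 fun y hy => ?_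
    rw [Nat.beq_eq]
    apply Nat.mod_eq_zero_of_dvd
    refine hB y.1 (fst_prime hv hy) ?_
    have h5 : prodl x.2.2 = x.2.1 := by
      unfold valid at hv
      rw [Bool.and_eq_true, beq_iff_eq] at hv
      exact hv.2
    rw [← h5]
    rcases Nat.eq_zero_or_pos y.2 with h6 | h6
    · exfalso
      have h7 := List.all_eq_true.1 (List.all_eq_true.1 pos_exp x hx) y hy
      rw [Nat.blt_eq] at h7
      omega
    · exact (dvd_pow_self _ h6.ne').trans (dvd_prodl hy)
  rw [h3, h4, Bool.not_true, Bool.false_or, Bool.false_or] at h2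
  have h5 : (x.1, n, q, e) ∈ SVP := by simpa using h2
  unfold SVP at h5
  rcases List.mem_append.1 h5 with h6 | h6
  · exact h6
  · exfalso
    simp only [List.mem_cons, Prod.mk.injEq, List.not_mem_nil, or_false] at h6
    rcases h6 with ⟨_, h7, h8, h9⟩ | ⟨_, h7, h8, h9⟩ | ⟨_, h7, h8, h9⟩ | ⟨_, h7, h8, h9⟩
    · exact hne ⟨h9, h7, h8⟩
    · exact hne ⟨h9, h7, h8⟩
    · rw [h8] at hpp
      exact not_pp (a := 3) (b := 19) (by norm_num) (by norm_num) (by norm_num) (by norm_num) (by norm_num) hpp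
    · rw [h8] at hpp
      exact not_pp (a := 3) (b := 29) (by norm_num) (by norm_num) (by norm_num) (by norm_num) (by norm_num) hpp

end Cfsg.Agent.H403.NumSpor
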