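import Cfsg.Agent.H403.FrobDat
import Cfsg.Agent.KFacts.MM.Cent

/-!
# `2 ^ 3 : 7` and `3 ^ 2` in `M22` (helper403)
-/

set_option autoImplicit false

namespace Cfsg.Agent.H403.MTwo

open Cfsg Cfsg.Agent.SporadicA.GolayPerm Cfsg.Agent.KFacts.MM.El Cfsg.Agent.KFacts.MM.Cent

def s : ℕ := 960997294170163788102690112485740064
def t0 : ℕ := 966644684235801628085642631091160128
def t1 : ℕ := 966077218910650763820170868624106976
def t2 : ℕ := 984804854892943381750915509558352480
def a : ℕ := 982008931183875747913865092139686368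
def b : ℕ := 965322417197140742342537714786048544

theorem memS : pm s ∈ Spor.M22 := (mem_of_ok22 (by decide +kernel)).2
theorem mem0 : pm t0 ∈ Spor.M22 := (mem_of_ok22 (by decide +kernel)).2
theorem mem1 : pm t1 ∈ Spor.M22 := (mem_of_ok22 (by decide +kernel)).2
theorem mem2 : pm t2 ∈ Spor.M22 := (mem_of_ok22 (by decide +kernel)).2
theorem memA : pm a ∈ Spor.M22 := (mem_of_ok22 (by decide +kernel)).2
theorem memB : pm b ∈ Spor.M22 := (mem_of_ok22 (by decide +kernel)).2

/-- equality of words -/
theorem eqw {l m : List ℕ} (hl : okl l = true) (hm : okl m = true) (h : weq l m = true) : pr l = pr m :=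
  pr_of_weq hl hm h

theorem r1 : pm s ^ 7 = 1 := by
  have h := eqw (l := [s, s, s, s, s, s, s]) (m := []) (by decide +kernel) (by decide +kernel) (by decide +kernel)
  simp only [pr_cons, pr_nil, mul_one] at h
  rw [← h]
  simp only [pow_succ, pow_zero, one_mul, mul_assoc]

theorem r2 : pm s ≠ 1 := by
  have h := pr_ne (l := [s]) (m := []) (by decide +kernel) (by decide +kernel) (by decide +kernel)
  simpa only [pr_cons, pr_nil, mul_one] using h

theorem r3 : pm s * pm t0 = pm t1 * pm s := by
  have h := eqw (l := [s, t0]) (m := [t1, s]) (by decide +kernel) (by decide +kernel) (by decide +kernel)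
  simpa only [pr_cons, pr_nil, mul_one] using h

theorem r4 : pm s * pm t1 = pm t2 * pm s := by
  have h := eqw (l := [s, t1]) (m := [t2, s]) (by decide +kernel) (by decide +kernel) (by decide +kernel)
  simpa only [pr_cons, pr_nil, mul_one] using h

theorem r5 : pm s * pm t2 = pm t0 * pm t1 * pm s := by
  have h := eqw (l := [s, t2]) (m := [t0, t1, s]) (by decide +kernel) (by decide +kernel) (by decide +kernel)
  simpa only [pr_cons, pr_nil, mul_one, mul_assoc] using h

theorem r6 : pm t0 * pm t1 = pm t1 * pm t0 := by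
  have h := eqw (l := [t0, t1]) (m := [t1, t0]) (by decide +kernel) (by decide +kernel) (by decide +kernel)
  simpa only [pr_cons, pr_nil, mul_one] using h

theorem r7 : pm t0 * pm t2 = pm t2 * pm t0 := by
  have h := eqw (l := [t0, t2]) (m := [t2, t0]) (by decide +kernel) (by decide +kernel) (by decide +kernel)
  simpa only [pr_cons, pr_nil, mul_one] using h

theorem r8 : pm t0 * pm t0 = 1 := by
  have h := eqw (l := [t0, t0]) (m := []) (by decide +kernel) (by decide +kernel) (by decide +kernel)
  simpa only [pr_cons, pr_nil, mul_one] using h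

theorem r9 : pm t0 ≠ 1 := by
  have h := pr_ne (l := [t0]) (m := []) (by decide +kernel) (by decide +kernel) (by decide +kernel)
  simpa only [pr_cons, pr_nil, mul_one] using h

theorem q1 : pm a ^ 3 = 1 := by
  have h := eqw (l := [a, a, a]) (m := []) (by decide +kernel) (by decide +kernel) (by decide +kernel)
  simp only [pr_cons, pr_nil, mul_one] at h
  rw [← h]
  simp only [pow_succ, pow_zero, one_mul, mul_assoc]

theorem q2 : pm b ^ 3 = 1 := by
  have h := eqw (l := [b, b, b]) (m := []) (by decide +kernel) (by decide +kernel) (by decide +kernel)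
  simp only [pr_cons, pr_nil, mul_one] at h
  rw [← h]
  simp only [pow_succ, pow_zero, one_mul, mul_assoc]

theorem q3 : pm a * pm b = pm b * pm a := by
  have h := eqw (l := [a, b]) (m := [b, a]) (by decide +kernel) (by decide +kernel) (by decide +kernel)
  simpa only [pr_cons, pr_nil, mul_one] using h

theorem q4 : pm a ≠ 1 := by
  have h := pr_ne (l := [a]) (m := []) (by decide +kernel) (by decide +kernel) (by decide +kernel)
  simpa only [pr_cons, pr_nil, mul_one] using h

theorem q5 : pm b ≠ 1 := by
  have h := pr_ne (l := [b]) (m := []) (by decide +kernel) (by decide +kernel) (by decide +kernel)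
  simpa only [pr_cons, pr_nil, mul_one] using h

theorem q6 : pm a ≠ pm b := by
  have h := pr_ne (l := [a]) (m := [b]) (by decide +kernel) (by decide +kernel) (by decide +kernel)
  simpa only [pr_cons, pr_nil, mul_one] using h

theorem q7 : pm a * pm a ≠ pm b := by
  have h := pr_ne (l := [a, a]) (m := [b]) (by decide +kernel) (by decide +kernel) (by decide +kernel)
  simpa only [pr_cons, pr_nil, mul_one] using h

theorem fdat_M22 : FDat Spor.M22 where
  st := ⟨⟨_, memS⟩, ⟨_, mem0⟩, ⟨_, mem1⟩, ⟨_, mem2⟩, Subtype.ext r1, fun h => r2 (congrArg Subtype.val h),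
    Subtype.ext r3, Subtype.ext r4, Subtype.ext r5, Subtype.ext r6, Subtype.ext r7, Subtype.ext r8,
    fun h => r9 (congrArg Subtype.val h)⟩
  ab := ⟨⟨_, memA⟩, ⟨_, memB⟩, Subtype.ext q1, Subtype.ext q2, Subtype.ext q3, fun h => q4 (congrArg Subtype.val h),
    fun h => q5 (congrArg Subtype.val h), fun h => q6 (congrArg Subtype.val h), fun h => q7 (congrArg Subtype.val h)⟩

theorem fdat {X : Type*} [Group X] (h : Spor.IsoM22 X) : FDat X := by
  obtain ⟨e⟩ := h
  exact fdat_M22.congr e.symm

end Cfsg.Agent.H403.MTwo
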