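import Cfsg.Agent.H403.Roots
import Cfsg.Agent.H403.TorusList
import Cfsg.Agent.H403.NumTop

/-!
# Eigenvalues of matrices with a closure property (helper403)

`Cl x R` : the multiset `R` of nonzero elements is closed under the injective map `λ ↦ λ ^ x`, `x` an integer.
* `Cl.orbit` : the orbit of an element of `R` is contained in `R` (as a multiset);
* `Cl.dvd_period` : if `λ ^ A` is a nontrivial `r`-th root of unity, `x` of order `i` modulo `r`, then `i` divides the period;
* `pow_eq_smul_of_nodup`, `pow_eq_smul_of_coprime` : scalar powers of matrices from their eigenvalues.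
-/

set_option autoImplicit false

namespace Cfsg.Agent.H403

open Polynomial Function

/-! ### closed multisets -/

section Cl

variable {E : Type*} [Field E]

/-- `R` is closed under the injective map `λ ↦ λ ^ x` -/
structure Cl (x : ℤ) (R : Multiset E) : Prop where
  inj : Injective fun y : E => y ^ x
  map : R.map (fun y => y ^ x) = R
  zero : (0 : E) ∉ R

/-- the iterates of `y ↦ y ^ x` -/
theorem iterate_zpow (x : ℤ) (j : ℕ) (y : E) : (fun y : E => y ^ x)^[j] y = y ^ (x ^ j) := by
  induction j with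
  | zero => simp
  | succ j ih => rw [iterate_succ_apply', ih, ← zpow_mul, pow_succ]

variable {x : ℤ} {R : Multiset E}

theorem Cl.mem (h : Cl x R) {y : E} (hy : y ∈ R) : y ^ x ∈ R := by
  have := Multiset.mem_map_of_mem (fun y : E => y ^ x) hy
  rwa [h.map] at this

theorem Cl.mem_pow (h : Cl x R) {y : E} (hy : y ∈ R) (j : ℕ) : y ^ (x ^ j) ∈ R := by
  induction j with
  | zero => simpa using hy
  | succ j ih =>
    have := h.mem ih
    rwa [← zpow_mul, ← pow_succ] at this

theorem Cl.ne_zero (h : Cl x R) {y : E} (hy : y ∈ R) : y ≠ 0 := fun h0 => h.zero (h0 ▸ hy)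

/-- the period of `y` -/
noncomputable def per (x : ℤ) (y : E) : ℕ := minimalPeriod (fun y : E => y ^ x) y

theorem Cl.per_pos (h : Cl x R) {y : E} (hy : y ∈ R) : 0 < per x y := by
  classical
  exact minimalPeriod_pos_of_finset h.inj (S := R.toFinset)
    (fun z hz => Multiset.mem_toFinset.2 (h.mem (Multiset.mem_toFinset.1 hz))) (Multiset.mem_toFinset.2 hy)

theorem pow_per (x : ℤ) (y : E) : y ^ (x ^ per x y) = y := by
  rw [← iterate_zpow]
  exact iterate_minimalPeriod

/-- the orbit of `y` -/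
noncomputable def orb (x : ℤ) (y : E) : Multiset E := (Multiset.range (per x y)).map fun j => y ^ (x ^ j)

theorem card_orb (x : ℤ) (y : E) : Multiset.card (orb x y) = per x y := by simp [orb]

theorem orb_nodup (x : ℤ) (y : E) : (orb x y).Nodup := by
  unfold orb
  refine Multiset.Nodup.map_on ?_ (Multiset.nodup_range _)
  intro i hi j hj hij
  rw [Multiset.mem_range] at hi hj
  simp only [← iterate_zpow] at hij
  exact iterate_injOn_Iio_minimalPeriod hi hj hij

theorem mem_orb {x : ℤ} {y z : E} (h : z ∈ orb x y) : ∃ j, z = y ^ (x ^ j) := by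
  obtain ⟨j, -, rfl⟩ := Multiset.mem_map.1 h
  exact ⟨j, rfl⟩

theorem Cl.orb_le (h : Cl x R) {y : E} (hy : y ∈ R) : orb x y ≤ R := by
  rw [Multiset.le_iff_subset (orb_nodup x y)]
  intro z hz
  obtain ⟨j, rfl⟩ := mem_orb hz
  exact h.mem_pow hy j


/-- `i` divides the period of `y` if `y ^ A` is a nontrivial `r`-th root of unity and `x` has order `i` modulo `r` -/
theorem dvd_per {x : ℤ} {y : E} {r A i : ℕ} (hr : r.Prime) (hi : orderOf ((x : ℤ) : ZMod r) = i)
    (h1 : (y ^ A) ^ r = 1) (h2 : y ^ A ≠ 1) : i ∣ per x y := by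
  have h3 := pow_per x y
  have hA : (y ^ A) ^ (x ^ per x y) = y ^ A := by
    rw [← zpow_natCast, ← zpow_mul, mul_comm, zpow_mul, h3]
  have h0 : y ^ A ≠ 0 := by
    intro h
    rw [h, zero_pow hr.ne_zero] at h1
    exact zero_ne_one h1
  have h4 : (y ^ A) ^ (x ^ per x y - 1) = 1 := by
    rw [zpow_sub₀ h0, hA, zpow_one, div_self h0]
  have hf := Fact.mk hr
  have ho : orderOf (y ^ A) = r := orderOf_eq_prime h1 h2
  have h5 : (r : ℤ) ∣ x ^ per x y - 1 := by
    rw [← ho]
    have h6 : (Units.mk0 (y ^ A) h0) ^ (x ^ per x y - 1) = 1 := by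
      apply Units.ext
      simpa using h4
    have h7 := orderOf_dvd_iff_zpow_eq_one.2 h6
    rwa [← orderOf_units, Units.val_mk0] at h7
  rw [← hi, orderOf_dvd_iff_pow_eq_one]
  have h6 := (ZMod.intCast_zmod_eq_zero_iff_dvd (x ^ per x y - 1) r).2 h5
  push_cast at h6
  rwa [sub_eq_zero] at h6

/-- many elements of `R` have `y ^ A ≠ 1` -/
theorem Cl.le_card_filter [DecidableEq E] (h : Cl x R) {y : E} (hy : y ∈ R) {r A i : ℕ} (hr : r.Prime)
    (hi : orderOf ((x : ℤ) : ZMod r) = i) (h1 : (y ^ A) ^ r = 1) (h2 : y ^ A ≠ 1) :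
    i ≤ Multiset.card (R.filter fun z => z ^ A ≠ 1) := by
  have h3 := dvd_per hr hi h1 h2
  have h4 := Nat.le_of_dvd (h.per_pos hy) h3
  refine h4.trans ?_
  rw [← card_orb x y]
  refine Multiset.card_le_card ((Multiset.le_iff_subset (orb_nodup x y)).2 fun z hz => ?_)
  obtain ⟨j, rfl⟩ := mem_orb hz
  refine Multiset.mem_filter.2 ⟨h.mem_pow hy j, fun h5 => h2 ?_⟩
  -- the orbit returns to `y`
  have h6 : ∀ k : ℕ, (y ^ (x ^ (j + k))) ^ A = 1 := by
    intro k
    have : y ^ (x ^ (j + k)) = (y ^ (x ^ j)) ^ (x ^ k) := by rw [← zpow_mul, ← pow_add]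
    rw [this, ← zpow_natCast, ← zpow_mul, mul_comm, zpow_mul, zpow_natCast, h5, one_zpow]
  have h7 : ∀ t : ℕ, y ^ (x ^ (per x y * t)) = y := by
    intro t
    induction t with
    | zero => simp
    | succ t ih => rw [Nat.mul_succ, pow_add, zpow_mul, ih, pow_per]
  have h8 : ∃ t, j ≤ per x y * t := ⟨j, Nat.le_mul_of_pos_left j (h.per_pos hy)⟩
  obtain ⟨t, ht⟩ := h8
  have h9 := h6 (per x y * t - j)
  rw [show j + (per x y * t - j) = per x y * t by omega, h7] at h9
  exact h9

/-- **Two primes.** If `k + l > #R` and `lcm (k, l) > #R` then there are no `y, z ∈ R` with `y ^ A`, `z ^ B` nontrivial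
roots of unity of prime orders `r`, `s`, where `x` has orders `k`, `l` modulo `r`, `s`. -/
theorem Cl.two_primes [DecidableEq E] (h : Cl x R) {r s A B k l : ℕ} (hr : r.Prime) (hs : s.Prime)
    (hk : orderOf ((x : ℤ) : ZMod r) = k) (hl : orderOf ((x : ℤ) : ZMod s) = l)
    (hA : ∀ y ∈ R, (y ^ A) ^ r = 1) (hB : ∀ y ∈ R, (y ^ B) ^ s = 1) (hA' : ∃ y ∈ R, y ^ A ≠ 1)
    (hB' : ∃ y ∈ R, y ^ B ≠ 1) (hkl : Multiset.card R < k + l) (hlcm : Multiset.card R < Nat.lcm k l) : False := by
  obtain ⟨y, hy, hy1⟩ := hA'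
  obtain ⟨z, hz, hz1⟩ := hB'
  have h1 := h.le_card_filter hy hr hk (hA y hy) hy1
  have h2 := h.le_card_filter hz hs hl (hB z hz) hz1
  have h3 : ∃ w ∈ R, w ^ A ≠ 1 ∧ w ^ B ≠ 1 := by
    by_contra hcon
    push Not at hcon
    have h4 : R.filter (fun z => z ^ A ≠ 1) ≤ R.filter (fun z => ¬ z ^ B ≠ 1) := by
      refine Multiset.le_filter.2 ⟨Multiset.filter_le _ _, fun w hw => ?_⟩
      rw [Multiset.mem_filter] at hw
      exact not_not.2 (hcon w hw.1 hw.2)
    have h5 := Multiset.card_le_card h4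
    have h6 := congrArg Multiset.card (Multiset.filter_add_not (fun z : E => z ^ B ≠ 1) R)
    rw [Multiset.card_add] at h6
    omega
  obtain ⟨w, hw, hw1, hw2⟩ := h3
  have h4 := dvd_per hr hk (hA w hw) hw1
  have h5 := dvd_per hs hl (hB w hw) hw2
  have h6 := Nat.le_of_dvd (h.per_pos hw) (Nat.lcm_dvd h4 h5)
  have h7 : per x w ≤ Multiset.card R := by
    rw [← card_orb x w]
    exact Multiset.card_le_card (h.orb_le hw)
  omega

end Cl

/-! ### scalar powers of matrices -/

section Mat

variable {F : Type*} [Field F] (E : Type*) [Field E] [IsAlgClosed E] [Algebra F E]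
variable {n : Type*} [Fintype n] [DecidableEq n]

theorem pow_of_mem_evs {M : Matrix n n F} {k : ℕ} {c : F} (h : M ^ k = c • (1 : Matrix n n F)) {y : E}
    (hy : y ∈ evs E M) : y ^ k = algebraMap F E c := by
  have h1 : (M.map (algebraMap F E)).charpoly.IsRoot y := by
    rw [Matrix.charpoly_map]
    rw [evs, mem_roots (M.charpoly_monic.map _).ne_zero] at hy
    exact hy
  have h2 := spectrum.pow_mem_pow (M.map (algebraMap F E)) k (Matrix.mem_spectrum_of_isRoot_charpoly h1)
  have h3 : (M.map (algebraMap F E)) ^ k = algebraMap E (Matrix n n E) (algebraMap F E c) := by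
    have h4 := congrArg (algebraMap F E).mapMatrix h
    rw [map_pow] at h4
    rw [← RingHom.mapMatrix_apply, h4]
    ext i j
    rcases eq_or_ne i j with rfl | hij
    · simp [Matrix.algebraMap_matrix_apply]
    · simp [Matrix.algebraMap_matrix_apply, hij]
  rw [h3] at h2
  rcases isEmpty_or_nonempty n with hn | hn
  · exfalso
    have h5 : Multiset.card (evs E M) = 0 := by rw [card_evs, Fintype.card_eq_zero]
    rw [Multiset.card_eq_zero.1 h5] at hy
    exact Multiset.notMem_zero _ hy
  · rw [spectrum.scalar_eq] at h2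
    exact h2

theorem aeval_eq_of_dvd {M : Matrix n n F} {P : F[X]} (h : M.charpoly ∣ P) : aeval M P = 0 := by
  obtain ⟨R, rfl⟩ := h
  rw [map_mul, Matrix.aeval_self_charpoly, zero_mul]

/-- distinct eigenvalues with equal `k`-th powers -/
theorem pow_eq_smul_of_nodup {M : Matrix n n F} {k : ℕ} (hk : 0 < k) {c : F} (hn : (evs E M).Nodup)
    (h : ∀ y ∈ evs E M, y ^ k = algebraMap F E c) : M ^ k = c • (1 : Matrix n n F) := by
  have h1 : M.charpoly ∣ (X ^ k - C c : F[X]) := by
    rw [← Polynomial.map_dvd_map' (algebraMap F E), map_charpoly_eq_prod]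
    have h2 : ((X ^ k - C c : F[X]).map (algebraMap F E)) ≠ 0 := by
      rw [Polynomial.map_ne_zero_iff (algebraMap F E).injective]
      exact (monic_X_pow_sub_C c hk.ne').ne_zero
    rw [Multiset.prod_X_sub_C_dvd_iff_le_roots h2, Multiset.le_iff_subset hn]
    intro y hy
    rw [mem_roots h2, IsRoot.def, Polynomial.map_sub, Polynomial.map_pow, map_X, map_C, eval_sub, eval_pow,
      eval_X, eval_C, h y hy, sub_self]
  have h2 := aeval_eq_of_dvd h1
  rw [map_sub, map_pow, aeval_X, aeval_C, sub_eq_zero] at h2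
  rw [h2, Algebra.algebraMap_eq_smul_one]

theorem charpoly_dvd_pow {M : Matrix n n F} {P : F[X]} (h : ∀ y ∈ evs E M, (P.map (algebraMap F E)).IsRoot y) :
    M.charpoly ∣ P ^ Fintype.card n := by
  rw [← Polynomial.map_dvd_map' (algebraMap F E), map_charpoly_eq_prod, Polynomial.map_pow, ← card_evs E M]
  generalize evs E M = R at h
  induction R using Multiset.induction_on with
  | empty => simp
  | cons a R ih =>
    rw [Multiset.map_cons, Multiset.prod_cons, Multiset.card_cons, pow_succ']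
    exact mul_dvd_mul (dvd_iff_isRoot.2 (h a (Multiset.mem_cons_self _ _)))
      (ih fun y hy => h y (Multiset.mem_cons_of_mem hy))

/-- `M ^ (k m)` scalar, `m` invertible, all eigenvalues have the same `k`-th power: then `M ^ k` is scalar -/
theorem pow_eq_smul_of_coprime [Nonempty n] {M : Matrix n n F} {k m : ℕ} {c ζ : F} (hc : c ≠ 0) (hm : (m : F) ≠ 0)
    (hM : M ^ (k * m) = ζ • (1 : Matrix n n F)) (h : ∀ y ∈ evs E M, y ^ k = algebraMap F E c) :
    M ^ k = c • (1 : Matrix n n F) := by
  -- `ζ = c ^ m`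
  have hζ : ζ = c ^ m := by
    obtain ⟨y, hy⟩ : ∃ y, y ∈ evs E M := Multiset.card_pos_iff_exists_mem.1 (by rw [card_evs]; exact Fintype.card_pos)
    have h1 := pow_of_mem_evs E hM hy
    rw [pow_mul, h y hy, ← map_pow] at h1
    exact ((algebraMap F E).injective h1).symm
  set P : F[X] := X ^ k - C c with hP
  set Q : F[X] := ∑ i ∈ Finset.range m, (X ^ k) ^ i * (C c) ^ (m - 1 - i) with hQ
  have hPQ : P * Q = X ^ (k * m) - C ζ := by
    rw [hP, hQ, mul_comm, (Commute.all (X ^ k : F[X]) (C c)).geom_sum₂_mul, ← pow_mul, hζ, C_pow]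
  have hcop : IsCoprime P Q := by
    have h1 : P ∣ Q - C (m * c ^ (m - 1)) := by
      have h2 : Q - C (m * c ^ (m - 1)) = ∑ i ∈ Finset.range m, ((X ^ k) ^ i - (C c) ^ i) * (C c) ^ (m - 1 - i) := by
        rw [hQ]
        simp only [sub_mul]
        rw [Finset.sum_sub_distrib]
        congr 1
        rw [Finset.sum_congr rfl (g := fun _ => (C c : F[X]) ^ (m - 1))]
        · rw [Finset.sum_const, Finset.card_range, nsmul_eq_mul, C_mul, C_pow, C_eq_natCast]
        · intro i hi
          rw [← pow_add]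
          congr 1
          rw [Finset.mem_range] at hi
          omega
      rw [h2]
      exact Finset.dvd_sum fun i _ => Dvd.dvd.mul_right (sub_dvd_pow_sub_pow _ _ i) _
    obtain ⟨S, hS⟩ := h1
    have hu : (m * c ^ (m - 1) : F) ≠ 0 := mul_ne_zero hm (pow_ne_zero _ hc)
    refine ⟨-(C (m * c ^ (m - 1))⁻¹ * S), C (m * c ^ (m - 1))⁻¹, ?_⟩
    have h3 : Q = P * S + C (m * c ^ (m - 1)) := by rw [← hS]; ring
    rw [h3]
    have h4 : C ((m * c ^ (m - 1))⁻¹ : F) * C (m * c ^ (m - 1)) = (1 : F[X]) := by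
      rw [← C_mul, inv_mul_cancel₀ hu, C_1]
    linear_combination h4
  have hcop2 : IsCoprime (P ^ Fintype.card n) Q := hcop.pow_left
  obtain ⟨u, v, huv⟩ := hcop2
  have h1 : aeval M (P ^ Fintype.card n) = 0 := by
    apply aeval_eq_of_dvd
    apply charpoly_dvd_pow E
    intro y hy
    rw [hP, IsRoot.def, Polynomial.map_sub, Polynomial.map_pow, map_X, map_C, eval_sub, eval_pow,
      eval_X, eval_C, h y hy, sub_self]
  have h2 : aeval M (P * Q) = 0 := by
    rw [hPQ, map_sub, map_pow, aeval_X, aeval_C, hM, Algebra.algebraMap_eq_smul_one, sub_self]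
  have h3 : P = u * P ^ Fintype.card n * P + v * (P * Q) := by
    calc P = (u * P ^ Fintype.card n + v * Q) * P := by rw [huv, one_mul]
      _ = _ := by ring
  have h4 : aeval M P = 0 := by
    rw [h3, map_add, map_mul, map_mul, h1, map_mul, h2]
    simp
  rw [hP, map_sub, map_pow, aeval_X, aeval_C, sub_eq_zero] at h4
  rw [h4, Algebra.algebraMap_eq_smul_one]

/-- the determinant is the product of the eigenvalues -/
theorem prod_evs (M : Matrix n n F) : (evs E M).prod = algebraMap F E M.det := by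
  have h1 : (M.map (algebraMap F E)).det = (M.map (algebraMap F E)).charpoly.roots.prod :=
    Matrix.det_eq_prod_roots_charpoly _
  rw [evs, ← Matrix.charpoly_map, ← h1, ← RingHom.mapMatrix_apply, ← RingHom.map_det]

end Mat

end Cfsg.Agent.H403
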