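import Mathlib

/-!
# Roots of characteristic polynomials and orders of matrices over finite fields (helper403)

`evs E M` is the multiset of eigenvalues of `M` in the algebraically closed field `E`.
-/

set_option autoImplicit false
set_option linter.unusedSectionVars false
set_option linter.style.haveILetI false

namespace Cfsg.Agent.H403

open Polynomial Matrix

section Evs

variable {F : Type*} [Field F] (E : Type*) [Field E] [IsAlgClosed E] [Algebra F E]
variable {n : Type*} [Fintype n] [DecidableEq n]

/-- The eigenvalues (with multiplicity) of `M` in `E`. -/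
noncomputable def evs (M : Matrix n n F) : Multiset E := (M.charpoly.map (algebraMap F E)).roots

theorem map_charpoly_eq_prod (M : Matrix n n F) :
    M.charpoly.map (algebraMap F E) = ((evs E M).map fun a => X - C a).prod := by
  have hs : (M.charpoly.map (algebraMap F E)).Splits := IsAlgClosed.splits _
  have hm : (M.charpoly.map (algebraMap F E)).Monic := M.charpoly_monic.map _
  exact hs.eq_prod_roots_of_monic hm

theorem card_evs (M : Matrix n n F) : Multiset.card (evs E M) = Fintype.card n := by
  have hs : (M.charpoly.map (algebraMap F E)).Splits := IsAlgClosed.splits _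
  rw [evs, ← hs.natDegree_eq_card_roots, natDegree_map, M.charpoly_natDegree_eq_dim]

theorem evs_transpose (M : Matrix n n F) : evs E Mᵀ = evs E M := by
  rw [evs, charpoly_transpose, evs]

theorem evs_conj (M A B : Matrix n n F) (h : A * B = 1) : evs E (A * M * B) = evs E M := by
  rw [evs, evs]
  congr 2
  have hB : B * A = 1 := mul_eq_one_comm.1 h
  rw [Matrix.charpoly_mul_comm, ← Matrix.mul_assoc, hB, Matrix.one_mul]

theorem evs_frob [Fintype F] (M : Matrix n n F) :
    (evs E M).map (fun x => x ^ Fintype.card F) = evs E M := by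
  classical
  obtain ⟨p, hp⟩ := CharP.exists F
  haveI : Fact p.Prime := ⟨CharP.char_is_prime F p⟩
  obtain ⟨k, hpr, hk⟩ := FiniteField.card F p
  haveI : CharP E p := charP_of_injective_algebraMap (algebraMap F E).injective p
  have hq : ∀ x : E, x ^ Fintype.card F = (iterateFrobenius E p k) x := by
    intro x
    rw [iterateFrobenius_def, hk]
  have h1 : (M.charpoly.map (algebraMap F E)).map (iterateFrobenius E p k) =
      M.charpoly.map (algebraMap F E) := by
    rw [Polynomial.map_map]
    congr 1
    ext x
    rw [RingHom.comp_apply, ← hq, ← map_pow, FiniteField.pow_card]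
  have hs : (M.charpoly.map (algebraMap F E)).Splits := IsAlgClosed.splits _
  have h2 := hs.roots_map (iterateFrobenius E p k)
  rw [h1] at h2
  rw [evs]
  conv_rhs => rw [h2]
  exact Multiset.map_congr rfl fun x _ => hq x

theorem reverse_prod_X_sub_C (R : Multiset E) (h0 : (0 : E) ∉ R) :
    ((R.map fun a => X - C a).prod).reverse =
      C ((R.map fun a => -a).prod) * ((R.map fun a => X - C a⁻¹).prod) := by
  induction R using Multiset.induction_on with
  | empty =>
    have h1 : (1 : E[X]).reverse = 1 := by
      rw [← C_1, reverse_C]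
    simp [h1]
  | cons a R ih =>
    have ha : a ≠ 0 := fun h => h0 (by rw [h]; exact Multiset.mem_cons_self _ _)
    rw [Multiset.map_cons, Multiset.prod_cons, reverse_mul_of_domain,
      ih fun h => h0 (Multiset.mem_cons_of_mem h), Multiset.map_cons, Multiset.prod_cons,
      Multiset.map_cons, Multiset.prod_cons]
    have h1 : (X - C a : E[X]).reverse = C (-a) * (X - C a⁻¹) := by
      have h2 : (X - C a : E[X]) = C (-a) + X := by rw [map_neg]; ring
      rw [h2]
      have hd : (C (-a) + X : E[X]).natDegree = 1 := by
        rw [add_comm]; exact natDegree_X_add_C _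
      rw [reverse, hd, reflect_add, reflect_C, ← pow_one (X : E[X]), reflect_monomial]
      simp only [pow_one, map_neg, revAt_le (le_refl 1), Nat.sub_self, pow_zero]
      rw [mul_sub, neg_mul, neg_mul, ← C_mul, mul_inv_cancel₀ ha, map_one]
      ring
    rw [h1, map_mul]
    ring

theorem zero_notMem_evs (M : Matrix n n F) (hM : IsUnit M) : (0 : E) ∉ evs E M := by
  intro h
  rw [evs, mem_roots (M.charpoly_monic.map _).ne_zero, IsRoot.def, eval_map, ← map_zero (algebraMap F E),
    eval₂_at_apply] at h
  replace h := (algebraMap F E).injective h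
  have h1 : M.det = 0 := by
    rw [Matrix.det_eq_sign_charpoly_coeff, coeff_zero_eq_eval_zero, h, mul_zero]
  have h2 := (Matrix.isUnit_iff_isUnit_det M).1 hM
  rw [h1] at h2
  exact not_isUnit_zero h2

theorem evs_inv (M : Matrix n n F) (hM : IsUnit M) : evs E M⁻¹ = (evs E M).map (·⁻¹) := by
  have h0 := zero_notMem_evs E M hM
  have h1 : (M⁻¹.charpoly.map (algebraMap F E)) =
      C (algebraMap F E ((-1) ^ Fintype.card n * M.det⁻¹) * ((evs E M).map fun a => -a).prod) *
        (((evs E M).map (·⁻¹)).map fun a => X - C a).prod := by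
    rw [Matrix.charpoly_inv _ hM, ← Matrix.reverse_charpoly, Polynomial.map_mul, Polynomial.map_mul,
      Polynomial.map_pow, Polynomial.map_neg, Polynomial.map_one, map_C]
    have h3 : (M.charpoly.reverse).map (algebraMap F E) = (M.charpoly.map (algebraMap F E)).reverse := by
      rw [reverse, reverse, natDegree_map, reflect_map]
    rw [h3, map_charpoly_eq_prod, reverse_prod_X_sub_C E _ h0, Multiset.map_map, Ring.inverse_eq_inv', map_mul,
      map_mul, map_mul, map_pow, map_neg, map_one, map_pow, map_neg, map_one]
    simp only [Function.comp_def]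
    ring
  have h2 : C (algebraMap F E ((-1) ^ Fintype.card n * M.det⁻¹) * ((evs E M).map fun a => -a).prod) = 1 := by
    have h3 := (M⁻¹.charpoly_monic.map (algebraMap F E))
    rw [h1, Monic, leadingCoeff_mul, leadingCoeff_C] at h3
    have h4 : ((((evs E M).map (·⁻¹)).map fun a => X - C a).prod).leadingCoeff = 1 :=
      (monic_multiset_prod_of_monic _ _ fun a _ => monic_X_sub_C a)
    rw [h4, mul_one] at h3
    rw [h3, map_one]
  rw [evs, h1, h2, one_mul, roots_multiset_prod_X_sub_C]

/-- If all eigenvalues of `M` satisfy `λ ^ L = 1` and have multiplicity at most `p ^ b`, then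
`M ^ (L * p ^ b) = 1`. -/
theorem pow_eq_one_of_evs [DecidableEq E] (p : ℕ) [Fact p.Prime] [CharP F p] (M : Matrix n n F) (L b : ℕ)
    (h1 : ∀ x ∈ evs E M, x ^ L = 1) (h2 : ∀ x, (evs E M).count x ≤ p ^ b) :
    M ^ (L * p ^ b) = 1 := by
  have hdvd : M.charpoly ∣ (X ^ (L * p ^ b) - 1 : F[X]) := by
    rw [← Polynomial.map_dvd_map' (algebraMap F E), map_charpoly_eq_prod, Polynomial.map_sub, Polynomial.map_pow,
      map_X, Polynomial.map_one]
    haveI : CharP E p := charP_of_injective_algebraMap (algebraMap F E).injective p
    have h3 : (X ^ (L * p ^ b) - 1 : E[X]) = (X ^ L - 1) ^ (p ^ b) := by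
      rw [sub_pow_char_pow, one_pow, pow_mul]
    rw [h3, Finset.prod_multiset_map_count]
    refine Finset.prod_dvd_of_coprime ?_ ?_
    · intro x _ y _ hxy
      exact (IsCoprime.pow (pairwise_coprime_X_sub_C Function.injective_id hxy))
    · intro x hx
      have hx' := Multiset.mem_toFinset.1 hx
      refine (pow_dvd_pow _ (h2 x)).trans (pow_dvd_pow_of_dvd ?_ _)
      rw [dvd_iff_isRoot, IsRoot.def, eval_sub, eval_pow, eval_X, eval_one, h1 x hx', sub_self]
  obtain ⟨R, hR⟩ := hdvd
  have h4 := congrArg (aeval M) hR
  rw [map_mul, Matrix.aeval_self_charpoly, zero_mul, map_sub, map_pow, aeval_X, map_one, sub_eq_zero] at h4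
  exact h4

end Evs

end Cfsg.Agent.H403
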